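import Mathlib

/-!
Seven by seven matrices over the field of three elements as pairs of bit masks, for kernel computation.
-/

set_option autoImplicit false
set_option maxRecDepth 10000

namespace CfsgLib.OmegaSevenThree

/-- Bit masks of the entries `1` and `2`; the first mask wins where both are set. -/
structure Code where
  p : ℕ
  n : ℕ
deriving DecidableEq

/-- Bits `7 i` for `i < 7`. -/
def colMask : ℕ := 4432676798593

/-- The low forty-nine bits. -/
def allMask : ℕ := 562949953421311

/-- The value of an entry. -/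
def val (a b : Bool) : ZMod 3 := if a then 1 else if b then 2 else 0

/-- Entrywise sum. -/
def add (a b : Code) : Code :=
  let an := a.n ^^^ (a.n &&& a.p)
  let bn := b.n ^^^ (b.n &&& b.p)
  let both := (a.p ||| an) &&& (b.p ||| bn)
  let p := a.p ||| b.p
  let n := an ||| bn
  ⟨(an &&& bn) ||| (p ^^^ (p &&& both)), (a.p &&& b.p) ||| (n ^^^ (n &&& both))⟩

/-- A column spread along its rows. -/
def colSel (x : ℕ) : ℕ := (x &&& colMask) * 127

/-- A row repeated in all rows. -/
def rowRep (r : ℕ) : ℕ := (r &&& 127) * colMask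

/-- Column `k` of the first times row `k` of the second. -/
def outer (a b : Code) (k : ℕ) : Code :=
  let cp := colSel (a.p >>> k)
  let cn := colSel ((a.n ^^^ (a.n &&& a.p)) >>> k)
  let rp := rowRep (b.p >>> (7 * k))
  let rn := rowRep ((b.n ^^^ (b.n &&& b.p)) >>> (7 * k))
  ⟨(cp &&& rp) ||| (cn &&& rn), (cp &&& rn) ||| (cn &&& rp)⟩

/-- The product. -/
def mul (a b : Code) : Code :=
  add (add (add (outer a b 0) (outer a b 1)) (add (outer a b 2) (outer a b 3)))
    (add (add (outer a b 4) (outer a b 5)) (outer a b 6))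

/-- The identity. -/
def one : Code := ⟨282578800148737, 0⟩

/-- The canonical code of the same matrix. -/
def norm (a : Code) : Code := ⟨a.p &&& allMask, (a.n ^^^ (a.n &&& a.p)) &&& allMask⟩

/-- The matrix of a code. -/
def toMat (a : Code) : Matrix (Fin 7) (Fin 7) (ZMod 3) :=
  Matrix.of fun i j => val (a.p.testBit (7 * i.val + j.val)) (a.n.testBit (7 * i.val + j.val))

theorem val_add : ∀ a a' b b' : Bool,
    val (((a' ^^ (a' && a)) && (b' ^^ (b' && b))) ||
        ((a || b) ^^ ((a || b) && ((a || (a' ^^ (a' && a))) && (b || (b' ^^ (b' && b)))))))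
      ((a && b) || (((a' ^^ (a' && a)) || (b' ^^ (b' && b))) !=
        (((a' ^^ (a' && a)) || (b' ^^ (b' && b))) && ((a || (a' ^^ (a' && a))) && (b || (b' ^^ (b' && b)))))))
      = val a a' + val b b' := by decide +kernel

theorem add_apply (a b : Code) (i j : Fin 7) : toMat (add a b) i j = toMat a i j + toMat b i j := by
  show val _ _ = _
  simp only [add, Nat.testBit_lor, Nat.testBit_land, Nat.testBit_xor]
  exact val_add _ _ _ _

/-- Seven bits at the positions `7 i`. -/
def spread (f : Fin 7 → Bool) : ℕ :=
  (if f 0 then 1 else 0) ||| (if f 1 then 1 <<< 7 else 0) ||| (if f 2 then 1 <<< 14 else 0) |||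
    (if f 3 then 1 <<< 21 else 0) ||| (if f 4 then 1 <<< 28 else 0) |||
    (if f 5 then 1 <<< 35 else 0) ||| (if f 6 then 1 <<< 42 else 0)

theorem spread_lt : ∀ f : Fin 7 → Bool, spread f < 2 ^ 49 := by decide +kernel

theorem spread_testBit : ∀ f : Fin 7 → Bool, ∀ i j : Fin 7,
    (spread f).testBit (7 * i.val + j.val) = (decide (j = 0) && f i) := by decide +kernel

theorem colMask_testBit : ∀ i j : Fin 7,
    colMask.testBit (7 * i.val + j.val) = decide (j = 0) := by decide +kernel

theorem spread_mul_testBit : ∀ f : Fin 7 → Bool, ∀ i j : Fin 7,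
    (spread f * 127).testBit (7 * i.val + j.val) = f i := by decide +kernel

theorem rowRep_testBit_aux : ∀ r : Fin 128, ∀ i j : Fin 7,
    (r.val * colMask).testBit (7 * i.val + j.val) = r.val.testBit j.val := by decide +kernel

theorem land_colMask (x : ℕ) : x &&& colMask = spread fun i => x.testBit (7 * i.val) := by
  apply Nat.eq_of_testBit_eq
  intro t
  rw [Nat.testBit_land]
  by_cases ht : t < 49
  · obtain ⟨i, j, rfl⟩ : ∃ i j : Fin 7, t = 7 * i.val + j.val :=
      ⟨⟨t / 7, by omega⟩, ⟨t % 7, by omega⟩, by simp only; omega⟩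
    rw [colMask_testBit, spread_testBit]
    rcases eq_or_ne j 0 with rfl | h
    · simp
    · simp [h]
  · have h : 2 ^ 49 ≤ 2 ^ t := Nat.pow_le_pow_right (by norm_num) (by omega)
    rw [Nat.testBit_lt_two_pow (lt_of_lt_of_le (show colMask < 2 ^ 49 by decide +kernel) h),
      Nat.testBit_lt_two_pow (lt_of_lt_of_le (spread_lt _) h), Bool.and_false]

theorem colSel_testBit (x : ℕ) (i j : Fin 7) :
    (colSel x).testBit (7 * i.val + j.val) = x.testBit (7 * i.val) := by
  rw [colSel, land_colMask, spread_mul_testBit]

theorem rowRep_testBit (r : ℕ) (i j : Fin 7) :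
    (rowRep r).testBit (7 * i.val + j.val) = r.testBit j.val := by
  have h : r &&& 127 < 128 := Nat.lt_succ_of_le Nat.and_le_right
  rw [rowRep, rowRep_testBit_aux ⟨r &&& 127, h⟩ i j]
  show (r &&& 127).testBit j.val = _
  rw [Nat.testBit_land]
  have : ∀ k : Fin 7, (127 : ℕ).testBit k.val = true := by decide
  rw [this, Bool.and_true]

theorem val_mul : ∀ a a' b b' : Bool,
    val ((a && b) || ((a' ^^ (a' && a)) && (b' ^^ (b' && b))))
      ((a && (b' ^^ (b' && b))) || ((a' ^^ (a' && a)) && b)) = val a a' * val b b' := by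
  decide +kernel

theorem outer_apply (a b : Code) (k : Fin 7) (i j : Fin 7) :
    toMat (outer a b k.val) i j = toMat a i k * toMat b k j := by
  show val _ _ = val _ _ * val _ _
  simp only [outer, Nat.testBit_lor, Nat.testBit_land, colSel_testBit, rowRep_testBit,
    Nat.testBit_shiftRight, Nat.testBit_xor, Nat.add_comm k.val (7 * i.val)]
  exact val_mul _ _ _ _

theorem toMat_mul (a b : Code) : toMat (mul a b) = toMat a * toMat b := by
  ext i j
  rw [Matrix.mul_apply, Fin.sum_univ_seven, mul, add_apply, add_apply, add_apply, add_apply,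
    add_apply, add_apply, ← outer_apply a b 0, ← outer_apply a b 1, ← outer_apply a b 2,
    ← outer_apply a b 3, ← outer_apply a b 4, ← outer_apply a b 5, ← outer_apply a b 6]
  simp only [add_assoc]
  rfl

theorem one_entry : ∀ i j : Fin 7, val (one.p.testBit (7 * i.val + j.val))
    (one.n.testBit (7 * i.val + j.val)) = if i = j then 1 else 0 := by decide +kernel

theorem toMat_one : toMat one = 1 := by
  ext i j
  rw [Matrix.one_apply]
  exact one_entry i j

theorem val_norm : ∀ a b : Bool, val (a && true) ((b ^^ (b && a)) && true) = val a b := by decide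

theorem allMask_testBit (i j : Fin 7) : allMask.testBit (7 * i.val + j.val) = true := by
  revert i j; decide +kernel

theorem toMat_norm (a : Code) : toMat (norm a) = toMat a := by
  ext i j
  show val _ _ = val _ _
  simp only [norm, Nat.testBit_land, Nat.testBit_xor, allMask_testBit]
  exact val_norm _ _

theorem toMat_of_norm {a b : Code} (h : norm a = norm b) : toMat a = toMat b := by
  rw [← toMat_norm a, h, toMat_norm]

theorem val_inj : ∀ a a' b b' : Bool, val a a' = val b b' →
    a = b ∧ (a' ^^ (a' && a)) = (b' ^^ (b' && b)) := by decide +kernel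

theorem norm_of_toMat {a b : Code} (h : toMat a = toMat b) : norm a = norm b := by
  have key : ∀ t < 49, val (a.p.testBit t) (a.n.testBit t) = val (b.p.testBit t) (b.n.testBit t) := by
    intro t ht
    obtain ⟨i, j, rfl⟩ : ∃ i j : Fin 7, t = 7 * i.val + j.val :=
      ⟨⟨t / 7, by omega⟩, ⟨t % 7, by omega⟩, by simp only; omega⟩
    exact congrFun (congrFun h i) j
  have hbig : ∀ t, 49 ≤ t → allMask.testBit t = false := fun t ht =>
    Nat.testBit_lt_two_pow (lt_of_lt_of_le (show allMask < 2 ^ 49 by decide +kernel)
      (Nat.pow_le_pow_right (by norm_num) ht))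
  simp only [norm, Code.mk.injEq]
  constructor <;> refine Nat.eq_of_testBit_eq fun t => ?_ <;>
    simp only [Nat.testBit_land, Nat.testBit_xor] <;> by_cases ht : t < 49
  · rw [(val_inj _ _ _ _ (key t ht)).1]
  · rw [hbig t (by omega)]; simp
  · rw [(val_inj _ _ _ _ (key t ht)).2]
  · rw [hbig t (by omega)]; simp

end CfsgLib.OmegaSevenThree
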