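import Cfsg.Agent.Lib.OmegaSevenThree.Check
import Cfsg.Agent.Lib.OmegaSevenThree.CentData

/-!
The centraliser of the fourth representative moves every admissible triple of vectors back; class
invariants of the representatives.
-/

set_option autoImplicit false
set_option maxRecDepth 100000

namespace CfsgLib.OmegaSevenThree

open Matrix

/-- A column by its code. -/
def vc (n : ℕ) : Code :=
  ⟨spread fun i => decide (n / 3 ^ i.val % 3 = 1), spread fun i => decide (n / 3 ^ i.val % 3 = 2)⟩

/-- An entry of the first column. -/
def ent (a : Code) (i : ℕ) : ℕ :=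
  if a.p.testBit (7 * i) then 1 else if a.n.testBit (7 * i) then 2 else 0

/-- The first column. -/
def ents (a : Code) : List ℕ :=
  [ent a 0, ent a 1, ent a 2, ent a 3, ent a 4, ent a 5, ent a 6]

/-- The form on first columns. -/
def dot (a b : Code) : ℕ :=
  (ent a 0 * ent b 6 + ent a 1 * ent b 5 + ent a 2 * ent b 4 + 2 * ent a 3 * ent b 3 +
    ent a 4 * ent b 2 + ent a 5 * ent b 1 + ent a 6 * ent b 0) % 3

/-- The first column as a vector. -/
def colv (a : Code) : Fin 7 → ZMod 3 := fun i => toMat a i 0

/-- The nilpotent part of a representative. -/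
def nilp (r : ℕ) : Code := norm (add (reps.getD r one) ⟨0, one.p⟩)

/-- Images of a column under powers of the nilpotent part of the fourth representative. -/
def der (w : Code) : List Code :=
  let x := mul (nilp 3) w
  [w, x, mul (nilp 3) x]

/-- Which images vanish, and their inner products. -/
def sig (ws : List Code) : List Bool × List (List ℕ) :=
  let im := ws.flatMap der
  (im.map fun x => decide (ents x = [0, 0, 0, 0, 0, 0, 0]), im.map fun x => im.map fun y => dot x y)

/-- Generators of the odd part of the centraliser and their squares. -/
def centGens : List Code := centPairs.flatMap fun g => [g.1, mul g.1 g.1]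

/-- A signed word. -/
def centElt (s c : ℕ) : Code :=
  if s = 0 then wprod centGens 7 20 c else mul negOne (wprod centGens 7 20 c)

/-- The negative of a column. -/
def negCol (a : Code) : List ℕ := (ents a).map fun x => (3 - x) % 3

/-- First check. -/
def stageOne (n : ℕ) (e : ℕ) : Bool :=
  if sig [vc n] = sig [vc 729] then
    let m := ents (mul (wprod centGens 7 20 (e - 1)) (vc n))
    decide (e ≠ 0) && (decide (m = ents (vc 729)) || decide (m = negCol (vc 729)))
  else true

/-- Later checks. -/
def stageEntry (fixed : List ℕ) (target : ℕ) (w : ℕ) (e : ℕ × ℕ × ℕ) : Bool :=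
  decide (e.1 = w) && (decide (ents (mul (centElt e.2.1 e.2.2) (vc w)) = ents (vc target)) &&
    fixed.all fun f => decide (ents (mul (centElt e.2.1 e.2.2) (vc f)) = ents (vc f)))

/-- Count of columns. -/
def countVec (P : Code → Bool) : ℕ := ((List.range 2187).filter fun n => P (vc n)).length

/-- Class invariants. -/
def invariants (r : ℕ) : ℕ × ℕ × ℕ :=
  let N := nilp r
  (countVec fun v => decide (ents (mul N v) = [0, 0, 0, 0, 0, 0, 0]),
   countVec fun v => decide (ents (mul N (mul N v)) = [0, 0, 0, 0, 0, 0, 0]),
   countVec fun v => decide (dot (mul N v) (mul N v) = 2))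

end CfsgLib.OmegaSevenThree
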