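import Cfsg.Agent.Lib.OmegaSevenThree.CentCheck

/-!
A stage of the centraliser check.
-/

set_option autoImplicit false
set_option maxRecDepth 100000

namespace CfsgLib.OmegaSevenThree

theorem stage_three : (List.range 2187).all (fun n =>
    !decide (sig [vc 729, vc 243, vc n] = sig [vc 729, vc 243, vc 81]) ||
      centThree.any (stageEntry [729, 243] 81 n)) = true := by decide +kernel

end CfsgLib.OmegaSevenThree
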