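import Cfsg.Agent.Lib.OmegaSevenThree.CentCheck

/-!
Small checks: generators, conjugates among root elements, strictness of the chain, representatives.
-/

set_option autoImplicit false
set_option maxRecDepth 100000

namespace CfsgLib.OmegaSevenThree

/-- The second code is the transpose of the first, which preserves the form and has cube one. -/
def pairOk (g : Code × Code) : Bool :=
  ((List.range 7).all fun i => (List.range 7).all fun j =>
    decide (g.2.p.testBit (7 * i + j) = g.1.p.testBit (7 * j + i)) &&
      decide (g.2.n.testBit (7 * i + j) = g.1.n.testBit (7 * j + i))) &&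
  (decide (norm (mul g.2 (mul gram g.1)) = norm gram) &&
    decide (norm (mul g.1 (mul g.1 g.1)) = norm one))

theorem rootPairs_ok : rootPairs.all pairOk = true := by decide +kernel

theorem centPairs_ok : centPairs.all pairOk = true := by decide +kernel

theorem centPairs_commute : centPairs.all (fun g =>
    decide (norm (mul g.1 (reps.getD 3 one)) = norm (mul (reps.getD 3 one) g.1))) = true := by
  decide +kernel

/-- The root element of index `j`. -/
def rootCode (j : ℕ) : Code := (rootPairs.getD j (one, one)).1

/-- A product of powers of root elements, from index `i` upwards. -/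
def expProd : ℕ → List ℕ → Code
  | _, [] => one
  | i, a :: as =>
    mul (expProd (i + 1) as)
      (if a = 0 then one else if a = 1 then rootCode i else mul (rootCode i) (rootCode i))

theorem conjTable_ok : ((List.range 9).all fun k => (List.range k).all fun j =>
    let e := conjTable.getD (k * (k - 1) / 2 + j) (0, 0, [])
    decide (e.2.2.length = k) &&
      decide (norm (mul (rootCode k) (mul (rootCode j) (mul (rootCode k) (rootCode k)))) =
        norm (expProd 0 e.2.2))) = true := by decide +kernel

/-- Exponents of the representatives. -/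
def repExp : List (List ℕ) :=
  [[1, 0, 0, 0, 0, 0, 0, 0, 0], [0, 0, 1, 0, 0, 0, 0, 0, 0], [2, 0, 0, 0, 1, 0, 0, 0, 0],
    [0, 0, 1, 0, 0, 1, 0, 0, 0], [0, 2, 0, 0, 1, 1, 0, 0, 0], [0, 0, 2, 0, 0, 1, 0, 0, 0],
    [0, 1, 0, 1, 0, 0, 1, 0, 0]]

theorem reps_ok : ((List.range 7).all fun i =>
    decide ((repExp.getD i []).length = 9) &&
    (decide (norm (expProd 0 (repExp.getD i [])) = norm (reps.getD i one)) &&
    (decide (norm (mul (reps.getD i one) (mul (reps.getD i one) (reps.getD i one))) = norm one) &&
    decide (norm (reps.getD i one) ≠ norm one)))) = true := by decide +kernel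

/-- Words conjugating the squares of the representatives back. -/
def sqWords : List ℕ := [113376, 94945, 1584530, 1352163, 421704479332, 1352165, 94950]

theorem sqWords_ok : ((List.range 7).all fun i =>
    decide (sqWords.getD i 0 % 8 = i) &&
      entryOk (mul (reps.getD i one) (reps.getD i one)) (sqWords.getD i 0)) = true := by decide +kernel

theorem flip_conj :
    norm (mul flip06 (reps.getD 3 one)) = norm (mul (reps.getD 5 one) flip06) := by decide +kernel

theorem vc_basis :
    ents (vc 729) = [0, 0, 0, 0, 0, 0, 1] ∧ ents (vc 243) = [0, 0, 0, 0, 0, 1, 0] ∧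
    ents (vc 81) = [0, 0, 0, 0, 1, 0, 0] ∧
    ents (mul (nilp 3) (vc 243)) = [0, 0, 1, 0, 0, 0, 0] ∧
    ents (mul (nilp 3) (vc 81)) = [0, 2, 0, 0, 0, 0, 0] ∧
    ents (mul (nilp 3) (vc 729)) = [2, 0, 0, 1, 0, 0, 0] ∧
    ents (mul (nilp 3) (mul (nilp 3) (vc 729))) = [1, 0, 0, 0, 0, 0, 0] := by decide +kernel

end CfsgLib.OmegaSevenThree
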