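import Mathlib
import Cfsg.Agent.Lib.Orth.Spinor
import Cfsg.Agent.Lib.Orth.NegOne
import Cfsg.Agent.Lib.LinFix.OrthFieldMain
import Cfsg.Agent.Lib.OmegaSevenThree.Small

/-!
The orthogonal group of the seven-dimensional form over three elements as matrices in flag order.
-/

set_option autoImplicit false
set_option maxRecDepth 100000
set_option linter.unusedSectionVars false

namespace CfsgLib.OmegaSevenThree

open Matrix Cfsg CfsgLib.OrthSpinor

/-- The index type of the form. -/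
abbrev I7 := Unit ⊕ (Fin 3 ⊕ Fin 3)

/-- The form. -/
abbrev Q7 : QuadraticForm (ZMod 3) (I7 → ZMod 3) := CfsgLib.LinFix.OrthFieldMain.oddQ 3 (ZMod 3)

/-- The isometry group. -/
abbrev O7 := ↥(isometryGroup (ZMod 3) ⇑Q7)

/-- Flag order: `x₁ x₂ x₃ z y₃ y₂ y₁`. -/
def flagEquiv : Fin 7 ≃ I7 where
  toFun := ![Sum.inr (Sum.inl 0), Sum.inr (Sum.inl 1), Sum.inr (Sum.inl 2), Sum.inl (),
    Sum.inr (Sum.inr 2), Sum.inr (Sum.inr 1), Sum.inr (Sum.inr 0)]
  invFun := Sum.elim (fun _ => 3) (Sum.elim ![0, 1, 2] ![6, 5, 4])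
  left_inv := by decide
  right_inv := by decide

/-- The matrix in flag order. -/
def mat : O7 →* Matrix (Fin 7) (Fin 7) (ZMod 3) where
  toFun g := (((g : GL I7 (ZMod 3)) : Matrix I7 I7 (ZMod 3))).submatrix flagEquiv flagEquiv
  map_one' := Matrix.submatrix_one_equiv flagEquiv
  map_mul' g h := (Matrix.submatrix_mul_equiv _ _ _ _ _).symm

theorem mat_injective : Function.Injective mat := fun g h H => eq_of_matrix Q7 (by
  have := congrArg (fun M => Matrix.submatrix M flagEquiv.symm flagEquiv.symm) H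
  simpa [mat] using this)

theorem gram_entries : ∀ i j : Fin 7,
    val (gram.p.testBit (7 * i.val + j.val)) (gram.n.testBit (7 * i.val + j.val)) =
      (![![0, 0, 0, 0, 0, 0, 1], ![0, 0, 0, 0, 0, 1, 0], ![0, 0, 0, 0, 1, 0, 0], ![0, 0, 0, 2, 0, 0, 0],
        ![0, 0, 1, 0, 0, 0, 0], ![0, 1, 0, 0, 0, 0, 0], ![1, 0, 0, 0, 0, 0, 0]] :
        Fin 7 → Fin 7 → ZMod 3) i j := by decide +kernel

theorem gram_dot (x y : Fin 7 → ZMod 3) : x ⬝ᵥ (toMat gram *ᵥ y) =
    x 0 * y 6 + x 1 * y 5 + x 2 * y 4 + 2 * x 3 * y 3 + x 4 * y 2 + x 5 * y 1 + x 6 * y 0 := by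
  have h : toMat gram = Matrix.of fun i j : Fin 7 =>
      (![![0, 0, 0, 0, 0, 0, 1], ![0, 0, 0, 0, 0, 1, 0], ![0, 0, 0, 0, 1, 0, 0], ![0, 0, 0, 2, 0, 0, 0],
        ![0, 0, 1, 0, 0, 0, 0], ![0, 1, 0, 0, 0, 0, 0], ![1, 0, 0, 0, 0, 0, 0]] :
        Fin 7 → Fin 7 → ZMod 3) i j := Matrix.ext gram_entries
  simp [h, dotProduct, Matrix.mulVec, Fin.sum_univ_seven]
  ring

theorem form_eq (v : I7 → ZMod 3) :
    Q7 v = 2 * ((v ∘ flagEquiv) ⬝ᵥ (toMat gram *ᵥ (v ∘ flagEquiv))) := by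
  rw [gram_dot, CfsgLib.LinFix.OrthFieldMain.coe_oddQ, quadFormOdd, Fin.sum_univ_three]
  have h3 : (3 : ZMod 3) = 0 := by decide
  simp only [Function.comp_apply, flagEquiv, Equiv.coe_fn_mk]
  simp
  linear_combination (-(v (Sum.inl ()) ^ 2) - v (Sum.inr (Sum.inl 0)) * v (Sum.inr (Sum.inr 0)) -
    v (Sum.inr (Sum.inl 1)) * v (Sum.inr (Sum.inr 1)) -
    v (Sum.inr (Sum.inl 2)) * v (Sum.inr (Sum.inr 2))) * h3

theorem mulVec_comp (M : Matrix (Fin 7) (Fin 7) (ZMod 3)) (v : I7 → ZMod 3) :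
    (M.submatrix flagEquiv.symm flagEquiv.symm *ᵥ v) ∘ flagEquiv = M *ᵥ (v ∘ flagEquiv) := by
  funext i
  rw [Matrix.submatrix_mulVec_equiv, Function.comp_apply, Function.comp_apply,
    Equiv.symm_apply_apply, Equiv.symm_symm]

theorem act_comp (g : O7) (v : I7 → ZMod 3) :
    act Q7 g v ∘ flagEquiv = mat g *ᵥ (v ∘ flagEquiv) := by
  rw [← mulVec_comp]
  simp [mat, act]

/-- Isometries preserve the Gram matrix. -/
theorem mat_gram (g : O7) (x y : Fin 7 → ZMod 3) :
    (mat g *ᵥ x) ⬝ᵥ (toMat gram *ᵥ (mat g *ᵥ y)) = x ⬝ᵥ (toMat gram *ᵥ y) := by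
  have h := polar_act Q7 g (x ∘ flagEquiv.symm) (y ∘ flagEquiv.symm)
  have hx : (x ∘ flagEquiv.symm) ∘ flagEquiv = x := by funext i; simp
  have hy : (y ∘ flagEquiv.symm) ∘ flagEquiv = y := by funext i; simp
  have key : ∀ v w : I7 → ZMod 3, QuadraticMap.polar (⇑Q7) v w =
      2 * (2 * ((v ∘ flagEquiv) ⬝ᵥ (toMat gram *ᵥ (w ∘ flagEquiv)))) := by
    intro v w
    rw [QuadraticMap.polar, form_eq, form_eq, form_eq, gram_dot, gram_dot, gram_dot, gram_dot]
    simp only [Function.comp_apply, Pi.add_apply]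
    ring
  rw [key, key, act_comp, act_comp, hx, hy, ← mul_assoc, ← mul_assoc] at h
  exact mul_left_cancel₀ (show (2 * 2 : ZMod 3) ≠ 0 by decide) h

theorem transpose_of_pairOk {g : Code × Code} (h : pairOk g = true) :
    toMat g.2 = (toMat g.1)ᵀ := by
  simp only [pairOk, Bool.and_eq_true, List.all_eq_true, decide_eq_true_eq, List.mem_range] at h
  ext i j
  obtain ⟨h1, h2⟩ := h.1 i.val i.isLt j.val j.isLt
  show val _ _ = val _ _
  rw [h1, h2]

theorem sub_mul_sub (A B : Matrix (Fin 7) (Fin 7) (ZMod 3)) :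
    A.submatrix flagEquiv.symm flagEquiv.symm * B.submatrix flagEquiv.symm flagEquiv.symm =
      (A * B).submatrix flagEquiv.symm flagEquiv.symm :=
  Matrix.submatrix_mul_equiv A B _ flagEquiv.symm _

theorem exists_elt_aux (M : Matrix (Fin 7) (Fin 7) (ZMod 3))
    (hG : Mᵀ * (toMat gram * M) = toMat gram) (h3 : M * (M * M) = 1) :
    ∃ x : O7, mat x = M ∧ x ^ 3 = 1 := by
  generalize hGr : toMat gram = Gr at hG
  have hform : ∀ v, Q7 (M.submatrix flagEquiv.symm flagEquiv.symm *ᵥ v) = Q7 v := fun v => by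
    rw [form_eq, form_eq, mulVec_comp, hGr, Matrix.mulVec_mulVec,
      Matrix.dotProduct_mulVec (M *ᵥ (v ∘ flagEquiv)) (Gr * M),
      ← Matrix.mulVec_transpose, Matrix.mulVec_mulVec, Matrix.dotProduct_mulVec (v ∘ flagEquiv) Gr,
      ← Matrix.mulVec_transpose]
    congr 3
    conv_rhs => rw [← hG]
    simp only [Matrix.transpose_mul, Matrix.transpose_transpose, Matrix.mul_assoc]
  have e1 : M.submatrix flagEquiv.symm flagEquiv.symm *
      (M * M).submatrix flagEquiv.symm flagEquiv.symm = 1 := by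
    rw [sub_mul_sub, h3, Matrix.submatrix_one_equiv]
  have e2 : (M * M).submatrix flagEquiv.symm flagEquiv.symm *
      M.submatrix flagEquiv.symm flagEquiv.symm = 1 := by
    rw [sub_mul_sub, Matrix.mul_assoc, h3, Matrix.submatrix_one_equiv]
  obtain ⟨x, hxa⟩ : ∃ x : O7, ∀ v, act Q7 x v = M.submatrix flagEquiv.symm flagEquiv.symm *ᵥ v :=
    ⟨mkIsometry Q7 _ _ e1 e2 hform, fun v => act_mkIsometry Q7 _ _ e1 e2 hform v⟩
  have hx : mat x = M := by
    refine Matrix.toLin'.injective (LinearMap.ext fun y => ?_)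
    rw [Matrix.toLin'_apply, Matrix.toLin'_apply]
    have hy : (y ∘ flagEquiv.symm) ∘ flagEquiv = y := by funext i; simp
    rw [← hy, ← act_comp, hxa, mulVec_comp]
  refine ⟨x, hx, mat_injective ?_⟩
  rw [map_pow, map_one, hx, pow_succ, pow_two, mul_assoc]
  exact h3

/-- A certified code is the matrix of an isometry of order dividing three. -/
theorem exists_elt {g : Code × Code} (h : pairOk g = true) :
    ∃ x : O7, mat x = toMat g.1 ∧ x ^ 3 = 1 := by
  have ht := transpose_of_pairOk h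
  simp only [pairOk, Bool.and_eq_true, decide_eq_true_eq] at h
  have hG : (toMat g.1)ᵀ * (toMat gram * toMat g.1) = toMat gram := by
    rw [← ht, ← toMat_mul, ← toMat_mul]; exact toMat_of_norm h.2.1
  have h3 : toMat g.1 * (toMat g.1 * toMat g.1) = 1 := by
    rw [← toMat_mul, ← toMat_mul, ← toMat_one]; exact toMat_of_norm h.2.2
  exact exists_elt_aux (toMat g.1) hG h3

theorem h2 : (2 : ZMod 3) ≠ 0 := by decide

theorem hQ : (QuadraticMap.polarBilin Q7).Nondegenerate :=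
  CfsgLib.LinFix.OrthFieldMain.oddQ_nd h2 3

theorem hn : 2 ≤ Fintype.card I7 := by simp

theorem index_omega : (Omega (ZMod 3) ⇑Q7).index = 4 :=
  CfsgLib.OrthNegOne.index_Omega_odd h2 hQ hn

theorem mem_omega_of_cube {x : O7} (hx : x ^ 3 = 1) : x ∈ Omega (ZMod 3) ⇑Q7 := by
  have : (Omega (ZMod 3) ⇑Q7).Normal := by unfold Omega; infer_instance
  have h := Subgroup.pow_index_mem (Omega (ZMod 3) ⇑Q7) x
  rwa [index_omega, pow_succ, hx, one_mul] at h

/-- Products along words. -/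
theorem exists_wprod (H : Subgroup O7) (gs : List Code)
    (hgs : ∀ c ∈ gs, ∃ g ∈ H, mat g = toMat c) (b : ℕ) : ∀ fuel w,
    ∃ g ∈ H, mat g = toMat (wprod gs b fuel w)
  | 0, _ => ⟨1, one_mem _, by rw [map_one, wprod, toMat_one]⟩
  | fuel + 1, w => by
    rw [wprod]
    split_ifs
    · exact ⟨1, one_mem _, by rw [map_one, toMat_one]⟩
    obtain ⟨g, hg, hg'⟩ := exists_wprod H gs hgs b fuel (w / b)
    obtain ⟨g', hgH, hg''⟩ : ∃ g' ∈ H, mat g' = toMat (gs.getD (w % b - 1) one) := by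
      rw [List.getD_eq_getElem?_getD]
      cases hc : gs[w % b - 1]? with
      | none => exact ⟨1, one_mem _, by simp [toMat_one]⟩
      | some c => simpa using hgs c (List.mem_of_getElem? hc)
    exact ⟨g * g', mul_mem hg hgH, by rw [map_mul, toMat_mul, hg', hg'']⟩

theorem exists_rootElt (j : ℕ) : ∃ x : O7, mat x = toMat (rootCode j) ∧ x ^ 3 = 1 := by
  rw [rootCode, List.getD_eq_getElem?_getD]
  cases hc : rootPairs[j]? with
  | none => exact ⟨1, by simp [toMat_one], one_pow 3⟩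
  | some g => exact exists_elt (List.all_eq_true.1 rootPairs_ok g (List.mem_of_getElem? hc))

/-- The root element of index `j`. -/
noncomputable def rootElt (j : ℕ) : O7 := (exists_rootElt j).choose

theorem mat_rootElt (j : ℕ) : mat (rootElt j) = toMat (rootCode j) :=
  (exists_rootElt j).choose_spec.1

theorem rootElt_cube (j : ℕ) : rootElt j ^ 3 = 1 := (exists_rootElt j).choose_spec.2

end CfsgLib.OmegaSevenThree
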