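import Cfsg.Agent.Lib.OmegaSevenThree.CentCheck
import Cfsg.Agent.Lib.OmegaSevenThree.Model

/-!
Columns given by codes as vectors; the numeric checks read as statements about vectors.
-/

set_option autoImplicit false
set_option maxRecDepth 100000
set_option linter.unusedSectionVars false

namespace CfsgLib.OmegaSevenThree

open Matrix

/-- Vectors in flag order. -/
abbrev V7 := Fin 7 → ZMod 3

/-- The bilinear form in flag order. -/
def bil (x y : V7) : ZMod 3 := x ⬝ᵥ (toMat gram *ᵥ y)

theorem ent_lt (a : Code) (i : ℕ) : ent a i < 3 := by unfold ent; split_ifs <;> omega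

theorem ent_cast (a : Code) (i : Fin 7) : ((ent a i.val : ℕ) : ZMod 3) = colv a i := by
  show _ = val _ _
  unfold ent val
  simp only [Fin.val_zero, add_zero]
  split_ifs <;> rfl

theorem colv_mul (m a : Code) : colv (mul m a) = toMat m *ᵥ colv a := by
  funext i
  show toMat (mul m a) i 0 = _
  rw [toMat_mul]
  rfl

theorem eq_of_cast_eq {a b : ℕ} (ha : a < 3) (hb : b < 3) (h : (a : ZMod 3) = b) : a = b := by
  rw [ZMod.natCast_eq_natCast_iff'] at h
  omega

theorem ents_eq_iff {a b : Code} : ents a = ents b ↔ colv a = colv b := by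
  constructor
  · intro h
    simp only [ents, List.cons.injEq, and_true] at h
    obtain ⟨h0, h1, h2, h3, h4, h5, h6⟩ := h
    funext i
    rw [← ent_cast, ← ent_cast]
    fin_cases i <;> simp [h0, h1, h2, h3, h4, h5, h6]
  · intro h
    have e : ∀ i : Fin 7, ent a i.val = ent b i.val := fun i =>
      eq_of_cast_eq (ent_lt _ _) (ent_lt _ _) (by rw [ent_cast, ent_cast, h])
    simp only [ents]
    exact congrArg₂ _ (e 0) (congrArg₂ _ (e 1) (congrArg₂ _ (e 2) (congrArg₂ _ (e 3)
      (congrArg₂ _ (e 4) (congrArg₂ _ (e 5) (congrArg₂ _ (e 6) rfl))))))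

theorem colv_of_ents {a : Code} {l : List ℕ} (h : ents a = l) :
    colv a = fun i : Fin 7 => ((l.getD i.val 0 : ℕ) : ZMod 3) := by
  funext i
  rw [← ent_cast, ← h]
  congr 1
  fin_cases i <;> rfl

theorem colv_zero_iff (a : Code) : ents a = [0, 0, 0, 0, 0, 0, 0] ↔ colv a = 0 := by
  constructor
  · intro h
    rw [colv_of_ents h]
    funext i
    fin_cases i <;> rfl
  · intro h
    have e : ∀ i : Fin 7, ent a i.val = 0 := fun i =>
      eq_of_cast_eq (ent_lt _ _) (by norm_num) (by rw [ent_cast, h]; rfl)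
    simp only [ents]
    exact congrArg₂ _ (e 0) (congrArg₂ _ (e 1) (congrArg₂ _ (e 2) (congrArg₂ _ (e 3)
      (congrArg₂ _ (e 4) (congrArg₂ _ (e 5) (congrArg₂ _ (e 6) rfl))))))

theorem colv_of_negCol {a b : Code} (h : ents a = negCol b) : colv a = -colv b := by
  rw [colv_of_ents h]
  funext i
  rw [Pi.neg_apply, ← ent_cast]
  have key : ∀ x : ℕ, x < 3 → ((((3 - x) % 3 : ℕ)) : ZMod 3) = -(x : ZMod 3) := by
    intro x hx
    interval_cases x <;> decide
  rw [← key _ (ent_lt b i.val)]
  congr 1
  fin_cases i <;> rfl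

theorem dot_eq (a b : Code) : dot a b = (bil (colv a) (colv b)).val := by
  have h : ((dot a b : ℕ) : ZMod 3) = bil (colv a) (colv b) := by
    rw [bil, gram_dot, dot, ZMod.natCast_mod]
    simp only [Nat.cast_add, Nat.cast_mul, Nat.cast_ofNat]
    simp only [← ent_cast]
    rfl
  rw [← h, ZMod.val_natCast]
  exact (Nat.mod_eq_of_lt (Nat.mod_lt _ (by norm_num))).symm

/-- Vectors by their numbers. -/
def vecEquiv : Fin (3 ^ 7) ≃ V7 := finFunctionFinEquiv.symm

theorem colv_vc (n : Fin (3 ^ 7)) : colv (vc n.val) = vecEquiv n := by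
  funext i
  have key : ∀ d : ℕ, d < 3 → val (decide (d = 1)) (decide (d = 2)) = (d : ZMod 3) := by
    intro d hd
    interval_cases d <;> rfl
  have hv : ((vecEquiv n i).val : ℕ) = n.val / 3 ^ i.val % 3 :=
    finFunctionFinEquiv_symm_apply_val n i
  show val _ _ = _
  simp only [vc, spread_testBit]
  rw [decide_true, Bool.true_and, Bool.true_and,
    key _ (Nat.mod_lt _ (by norm_num)), ← hv, ZMod.natCast_zmod_val]

theorem exists_vc (v : V7) : ∃ n, n < 2187 ∧ colv (vc n) = v :=
  ⟨(vecEquiv.symm v).val, (vecEquiv.symm v).isLt, by rw [colv_vc, Equiv.apply_symm_apply]⟩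

theorem countVec_eq (P : Code → Bool) (S : V7 → Prop)
    (h : ∀ a, P a = true ↔ S (colv a)) : countVec P = Nat.card {v // S v} := by
  classical
  have e : {v // S v} ≃ {n // n ∈ (Finset.range (3 ^ 7)).filter fun n => P (vc n) = true} :=
    { toFun := fun v => ⟨(vecEquiv.symm v.1).val, Finset.mem_filter.2
        ⟨Finset.mem_range.2 (vecEquiv.symm v.1).isLt,
          (h _).2 (by rw [colv_vc, Equiv.apply_symm_apply]; exact v.2)⟩⟩
      invFun := fun n => ⟨vecEquiv ⟨n.1, Finset.mem_range.1 (Finset.mem_filter.1 n.2).1⟩, by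
        rw [← colv_vc]; exact (h _).1 (Finset.mem_filter.1 n.2).2⟩
      left_inv := fun v => Subtype.ext (Equiv.apply_symm_apply _ _)
      right_inv := fun n => Subtype.ext (by simp) }
  rw [Nat.card_congr e, Nat.card_eq_finsetCard, countVec]
  rw [show (2187 : ℕ) = 3 ^ 7 by norm_num]
  exact congrArg List.length (List.filter_congr fun n _ => by simp)

/-- The nilpotent part of a representative. -/
def nilMat (r : ℕ) : Matrix (Fin 7) (Fin 7) (ZMod 3) := toMat (nilp r)

theorem negOne_entries : ∀ i j : Fin 7, val ((0 : ℕ).testBit (7 * i.val + j.val))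
    (one.p.testBit (7 * i.val + j.val)) =
      -(if i = j then (1 : ZMod 3) else 0) := by decide +kernel

theorem toMat_neg_one : toMat ⟨0, one.p⟩ = -1 := by
  ext i j
  rw [Matrix.neg_apply, Matrix.one_apply, ← negOne_entries i j]
  rfl

theorem toMat_negOne : toMat negOne = -1 := by
  rw [← toMat_neg_one]
  rfl

theorem nilMat_eq (r : ℕ) : nilMat r = toMat (reps.getD r one) - 1 := by
  rw [nilMat, nilp, toMat_norm, sub_eq_add_neg, ← toMat_neg_one]
  ext i j
  rw [add_apply, Matrix.add_apply]

/-- The three invariants on vectors. -/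
theorem invariants_eq (r : ℕ) : invariants r =
    (Nat.card {v : V7 // nilMat r *ᵥ v = 0},
      Nat.card {v : V7 // nilMat r *ᵥ (nilMat r *ᵥ v) = 0},
      Nat.card {v : V7 // bil (nilMat r *ᵥ v) (nilMat r *ᵥ v) = 2}) := by
  have h1 : countVec (fun v => decide (ents (mul (nilp r) v) = [0, 0, 0, 0, 0, 0, 0])) =
      Nat.card {v : V7 // nilMat r *ᵥ v = 0} :=
    countVec_eq _ (fun v => nilMat r *ᵥ v = 0) fun a => by
      rw [decide_eq_true_iff, colv_zero_iff, colv_mul]; rfl
  have h2 : countVec (fun v =>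
      decide (ents (mul (nilp r) (mul (nilp r) v)) = [0, 0, 0, 0, 0, 0, 0])) =
      Nat.card {v : V7 // nilMat r *ᵥ (nilMat r *ᵥ v) = 0} :=
    countVec_eq _ (fun v => nilMat r *ᵥ (nilMat r *ᵥ v) = 0) fun a => by
      rw [decide_eq_true_iff, colv_zero_iff, colv_mul, colv_mul]; rfl
  have h3 : countVec (fun v => decide (dot (mul (nilp r) v) (mul (nilp r) v) = 2)) =
      Nat.card {v : V7 // bil (nilMat r *ᵥ v) (nilMat r *ᵥ v) = 2} :=
    countVec_eq _ (fun v => bil (nilMat r *ᵥ v) (nilMat r *ᵥ v) = 2) fun a => by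
      rw [decide_eq_true_iff, dot_eq, colv_mul]
      exact ⟨fun h => ZMod.val_injective 3 (h.trans rfl), fun h => congrArg ZMod.val h⟩
  rw [← h1, ← h2, ← h3]
  rfl

/-- The images of a vector under powers of the fourth nilpotent part. -/
def derV (v : V7) : List V7 := [v, nilMat 3 *ᵥ v, nilMat 3 *ᵥ (nilMat 3 *ᵥ v)]

/-- The pattern of a list of vectors. -/
def sigV (vs : List V7) : List Bool × List (List ℕ) :=
  ((vs.flatMap derV).map fun x => decide (x = 0),
    (vs.flatMap derV).map fun x => (vs.flatMap derV).map fun y => (bil x y).val)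

theorem map_der (ws : List Code) : (ws.flatMap der).map colv = (ws.map colv).flatMap derV := by
  induction ws with
  | nil => rfl
  | cons a ws ih =>
    rw [List.flatMap_cons, List.map_append, ih, List.map_cons, List.flatMap_cons]
    congr 1
    simp only [der, derV, List.map_cons, List.map_nil, colv_mul]
    rfl

theorem sig_eq (ws : List Code) : sig ws = sigV (ws.map colv) := by
  unfold sig sigV
  rw [← map_der]
  simp only [List.map_map]
  refine Prod.ext ?_ ?_
  · refine List.map_congr_left fun x _ => ?_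
    simp only [Function.comp_apply]
    exact decide_eq_decide.2 (colv_zero_iff x)
  · refine List.map_congr_left fun x _ => ?_
    refine List.map_congr_left fun y _ => ?_
    exact dot_eq x y

end CfsgLib.OmegaSevenThree
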