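import Cfsg.Agent.Lib.OmegaSevenThree.Sylow
import Cfsg.Agent.Lib.OmegaSevenThree.Vectors
import Cfsg.Agent.Lib.OmegaSevenThree.StageOne
import Cfsg.Agent.Lib.OmegaSevenThree.StageTwo
import Cfsg.Agent.Lib.OmegaSevenThree.StageThree

/-!
The centraliser of the fourth representative lies in `Ω` up to sign.
-/

set_option autoImplicit false
set_option maxRecDepth 100000
set_option linter.unusedSectionVars false

namespace CfsgLib.OmegaSevenThree

open Matrix Cfsg CfsgLib.OrthSpinor

/-- Elements of `Ω` centralising the fourth representative. -/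
noncomputable def centH : Subgroup O7 :=
  Omega (ZMod 3) ⇑Q7 ⊓ Subgroup.centralizer {repElt 3}

theorem nilMat_rep (i : Fin 7) : nilMat i.val = mat (repElt i) - 1 := by
  rw [nilMat_eq, mat_repElt]

theorem exists_centGen : ∀ c ∈ centGens, ∃ g ∈ centH, mat g = toMat c := by
  intro c hc
  obtain ⟨g, hg, hgc⟩ := List.mem_flatMap.1 hc
  obtain ⟨x, hx, hx3⟩ := exists_elt (List.all_eq_true.1 centPairs_ok g hg)
  have hcm := List.all_eq_true.1 centPairs_commute g hg
  rw [decide_eq_true_iff] at hcm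
  have hx' : x ∈ centH := ⟨mem_omega_of_cube hx3, Subgroup.mem_centralizer_iff.2 fun y hy => by
    rw [Set.mem_singleton_iff] at hy
    subst hy
    refine mat_injective ?_
    rw [map_mul, map_mul, hx, mat_repElt, ← toMat_mul, ← toMat_mul]
    exact (toMat_of_norm hcm).symm⟩
  rcases List.mem_cons.1 hgc with rfl | hgc
  · exact ⟨x, hx', hx⟩
  · rw [List.mem_singleton] at hgc
    subst hgc
    exact ⟨x * x, mul_mem hx' hx', by rw [map_mul, toMat_mul, hx]⟩

theorem exists_centElt (s c : ℕ) : ∃ g ∈ centH,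
    toMat (centElt s c) = mat g ∨ toMat (centElt s c) = -mat g := by
  obtain ⟨g, hg, hg'⟩ := exists_wprod centH centGens exists_centGen 7 20 c
  refine ⟨g, hg, ?_⟩
  unfold centElt
  split_ifs
  · exact Or.inl hg'.symm
  · right
    rw [toMat_mul, toMat_negOne, hg', neg_one_mul]

/-- Signed isometries commuting with the fourth representative. -/
def Good (M : Matrix (Fin 7) (Fin 7) (ZMod 3)) : Prop :=
  ∃ h : O7, h * repElt 3 = repElt 3 * h ∧ (M = mat h ∨ M = -mat h)

/-- Signed elements of `Ω`. -/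
def Red (M : Matrix (Fin 7) (Fin 7) (ZMod 3)) : Prop :=
  ∃ g ∈ Omega (ZMod 3) ⇑Q7, M = mat g ∨ M = -mat g

variable {M : Matrix (Fin 7) (Fin 7) (ZMod 3)}

theorem good_comm (hM : Good M) (x : V7) : M *ᵥ (nilMat 3 *ᵥ x) = nilMat 3 *ᵥ (M *ᵥ x) := by
  obtain ⟨h, hh, rfl | rfl⟩ := hM
  all_goals
    have e : mat h * mat (repElt 3) = mat (repElt 3) * mat h := by rw [← map_mul, ← map_mul, hh]
    rw [show nilMat 3 = mat (repElt 3) - 1 from nilMat_rep 3, mulVec_mulVec, mulVec_mulVec]
    congr 1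
    simp only [Matrix.mul_sub, Matrix.sub_mul, Matrix.mul_one, Matrix.one_mul, Matrix.neg_mul,
      Matrix.mul_neg, e]
  all_goals abel

theorem good_bil (hM : Good M) (x y : V7) : bil (M *ᵥ x) (M *ᵥ y) = bil x y := by
  obtain ⟨h, -, rfl | rfl⟩ := hM
  · exact mat_gram h x y
  · rw [neg_mulVec, neg_mulVec, bil, mulVec_neg, dotProduct_neg, neg_dotProduct, neg_neg]
    exact mat_gram h x y

theorem good_zero (hM : Good M) (x : V7) : M *ᵥ x = 0 ↔ x = 0 := by
  refine ⟨fun hx => ?_, fun hx => by rw [hx, mulVec_zero]⟩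
  obtain ⟨h, -, rfl | rfl⟩ := hM
  · have := congrArg (mat h⁻¹ *ᵥ ·) hx
    simpa [mulVec_mulVec, ← map_mul] using this
  · have := congrArg (mat h⁻¹ *ᵥ ·) hx
    simpa [neg_mulVec, mulVec_neg, mulVec_mulVec, ← map_mul] using this

theorem sigV_map (hM : Good M) (vs : List V7) : sigV (vs.map (M *ᵥ ·)) = sigV vs := by
  have e : (vs.map (M *ᵥ ·)).flatMap derV = (vs.flatMap derV).map (M *ᵥ ·) := by
    induction vs with
    | nil => rfl
    | cons a vs ih =>
      rw [List.map_cons, List.flatMap_cons, List.flatMap_cons, List.map_append, ih]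
      congr 1
      simp only [derV, List.map_cons, List.map_nil, good_comm hM]
  unfold sigV
  rw [e]
  simp only [List.map_map, Function.comp_def, good_bil hM, good_zero hM]

theorem good_mul {T : Matrix (Fin 7) (Fin 7) (ZMod 3)} {g : O7} (hg : g ∈ centH)
    (hT : T = mat g ∨ T = -mat g) (hM : Good M) : Good (T * M) := by
  obtain ⟨h, hh, hM⟩ := hM
  refine ⟨g * h, ?_, ?_⟩
  · have hgc := Subgroup.mem_centralizer_iff.1 hg.2 (repElt 3) (Set.mem_singleton _)
    rw [mul_assoc, hh, ← mul_assoc, ← hgc, mul_assoc]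
  · rcases hT with rfl | rfl <;> rcases hM with rfl | rfl <;> simp [map_mul]

theorem red_of_mul {T : Matrix (Fin 7) (Fin 7) (ZMod 3)} {g : O7} (hg : g ∈ centH)
    (hT : T = mat g ∨ T = -mat g) (h : Red (T * M)) : Red M := by
  obtain ⟨k, hk, hk'⟩ := h
  refine ⟨g⁻¹ * k, mul_mem (inv_mem hg.1) hk, ?_⟩
  have e : M = mat g⁻¹ * (mat g * M) := by rw [← mul_assoc, ← map_mul, inv_mul_cancel, map_one, one_mul]
  have hk'' : mat g * M = mat k ∨ mat g * M = -mat k := by
    rcases hT with rfl | rfl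
    · exact hk'
    · rcases hk' with hk' | hk'
      · exact Or.inr (by rw [← hk', neg_mul, neg_neg])
      · exact Or.inl (by rw [← neg_neg (mat k), ← hk', neg_mul, neg_neg])
  rw [e, map_mul]
  rcases hk'' with hk'' | hk'' <;> simp [hk'']

theorem red_fix_three (hM : Good M) (h1 : M *ᵥ colv (vc 729) = colv (vc 729))
    (h2 : M *ᵥ colv (vc 243) = colv (vc 243)) (h3 : M *ᵥ colv (vc 81) = colv (vc 81)) : Red M := by
  refine ⟨1, one_mem _, Or.inl ?_⟩
  rw [map_one]
  obtain ⟨b6, b5, b4, b2, b1, b3, b0⟩ := vc_basis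
  have hN : ∀ a, colv (mul (nilp 3) a) = nilMat 3 *ᵥ colv a := fun a => colv_mul _ _
  have c1 := colv_of_ents b6
  have c2 := colv_of_ents b5
  have c3 := colv_of_ents b4
  have c4 := colv_of_ents b2
  have c5 := colv_of_ents b1
  have c6 := colv_of_ents b3
  have c7 := colv_of_ents b0
  rw [hN] at c4 c5 c6 c7
  rw [hN] at c7
  have hdec : ∀ v : V7, v = v 0 • (nilMat 3 *ᵥ (nilMat 3 *ᵥ colv (vc 729))) +
      (2 * v 1) • (nilMat 3 *ᵥ colv (vc 81)) + v 2 • (nilMat 3 *ᵥ colv (vc 243)) +
      v 3 • (nilMat 3 *ᵥ colv (vc 729) + nilMat 3 *ᵥ (nilMat 3 *ᵥ colv (vc 729))) +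
      v 4 • colv (vc 81) + v 5 • colv (vc 243) + v 6 • colv (vc 729) := by
    intro v
    rw [c4, c5, c7, c6, c1, c2, c3]
    funext i
    have key : ∀ a : ZMod 3, a * 2 + a = 0 ∧ a = 2 * a * 2 := by decide
    fin_cases i <;> simp [(key _).1, ← (key (v 1)).2]
  refine Matrix.toLin'.injective (LinearMap.ext fun v => ?_)
  rw [Matrix.toLin'_apply, Matrix.toLin'_apply, one_mulVec, hdec v]
  simp only [mulVec_add, mulVec_smul, good_comm hM, h1, h2, h3]

theorem exists_of_sig {ws : List Code} {base : List ℕ} {n : ℕ}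
    (hM : Good M) (hn : colv (vc n) = M *ᵥ colv (vc (base.getLastD 0)))
    (hbase : ∀ b ∈ base.dropLast, M *ᵥ colv (vc b) = colv (vc b))
    (hne : base ≠ []) (hws : ws = (base.dropLast.map vc) ++ [vc n]) :
    sig ws = sig (base.map vc) := by
  rw [sig_eq, sig_eq, ← sigV_map hM ((base.map vc).map colv), hws]
  congr 1
  conv_rhs => rw [← List.dropLast_append_getLast hne]
  rw [List.map_append, List.map_append, List.map_append, List.map_append]
  congr 1
  · simp only [List.map_map]
    exact List.map_congr_left fun b hb => (hbase b hb).symm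
  · simp only [List.map_cons, List.map_nil, hn]
    rw [List.getLastD_eq_getLast?, List.getLast?_eq_some_getLast hne]
    rfl

theorem red_fix_two (hM : Good M) (h1 : M *ᵥ colv (vc 729) = colv (vc 729))
    (h2 : M *ᵥ colv (vc 243) = colv (vc 243)) : Red M := by
  obtain ⟨n, hn, hn'⟩ := exists_vc (M *ᵥ colv (vc 81))
  have hs : sig [vc 729, vc 243, vc n] = sig [vc 729, vc 243, vc 81] :=
    exists_of_sig (base := [729, 243, 81]) hM hn' (fun b hb => by
      rcases List.mem_cons.1 hb with rfl | hb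
      · exact h1
      · rw [List.dropLast_cons_cons, List.dropLast_singleton, List.mem_singleton] at hb
        subst hb
        exact h2) (List.cons_ne_nil _ _) rfl
  have h := List.all_eq_true.1 stage_three n (List.mem_range.2 hn)
  rw [decide_eq_true hs, Bool.not_true, Bool.false_or, List.any_eq_true] at h
  obtain ⟨e, -, he⟩ := h
  simp only [stageEntry, Bool.and_eq_true, decide_eq_true_eq, List.all_cons, List.all_nil,
    Bool.and_true] at he
  obtain ⟨he1, he2, he3, he4⟩ := he
  obtain ⟨g, hg, hT⟩ := exists_centElt e.2.1 e.2.2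
  have f : ∀ a b, ents (mul (centElt e.2.1 e.2.2) (vc a)) = ents (vc b) →
      toMat (centElt e.2.1 e.2.2) *ᵥ colv (vc a) = colv (vc b) := fun a b hab => by
    rw [← colv_mul, ents_eq_iff.1 hab]
  refine red_of_mul hg hT (red_fix_three (good_mul hg hT hM) ?_ ?_ ?_)
  · rw [← mulVec_mulVec, h1]; exact f _ _ he3
  · rw [← mulVec_mulVec, h2]; exact f _ _ he4
  · rw [← mulVec_mulVec, ← hn']; exact f _ _ he2

theorem red_fix_one (hM : Good M) (h1 : M *ᵥ colv (vc 729) = colv (vc 729)) : Red M := by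
  obtain ⟨n, hn, hn'⟩ := exists_vc (M *ᵥ colv (vc 243))
  have hs : sig [vc 729, vc n] = sig [vc 729, vc 243] :=
    exists_of_sig (base := [729, 243]) hM hn' (fun b hb => by
      rw [List.dropLast_cons_cons, List.dropLast_singleton, List.mem_singleton] at hb
      subst hb
      exact h1) (List.cons_ne_nil _ _) rfl
  have h := List.all_eq_true.1 stage_two n (List.mem_range.2 hn)
  rw [decide_eq_true hs, Bool.not_true, Bool.false_or, List.any_eq_true] at h
  obtain ⟨e, -, he⟩ := h
  simp only [stageEntry, Bool.and_eq_true, decide_eq_true_eq, List.all_cons, List.all_nil,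
    Bool.and_true] at he
  obtain ⟨he1, he2, he3⟩ := he
  obtain ⟨g, hg, hT⟩ := exists_centElt e.2.1 e.2.2
  have f : ∀ a b, ents (mul (centElt e.2.1 e.2.2) (vc a)) = ents (vc b) →
      toMat (centElt e.2.1 e.2.2) *ᵥ colv (vc a) = colv (vc b) := fun a b hab => by
    rw [← colv_mul, ents_eq_iff.1 hab]
  refine red_of_mul hg hT (red_fix_two (good_mul hg hT hM) ?_ ?_)
  · rw [← mulVec_mulVec, h1]; exact f _ _ he3
  · rw [← mulVec_mulVec, ← hn']; exact f _ _ he2

theorem red_of_good (hM : Good M) : Red M := by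
  obtain ⟨n, hn, hn'⟩ := exists_vc (M *ᵥ colv (vc 729))
  have hs : sig [vc n] = sig [vc 729] :=
    exists_of_sig (base := [729]) hM hn' (fun b hb => by simp at hb) (List.cons_ne_nil _ _) rfl
  have h := List.all_eq_true.1 stage_one n (List.mem_range.2 hn)
  rw [stageOne, if_pos hs] at h
  simp only [Bool.and_eq_true, Bool.or_eq_true, decide_eq_true_eq] at h
  generalize (centOne.getD (n / 27) []).getD (n % 27) 0 = e at h
  obtain ⟨g, hg, hg'⟩ := exists_wprod centH centGens exists_centGen 7 20 (e - 1)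
  rcases h.2 with h' | h'
  · refine red_of_mul hg (Or.inl rfl) (red_fix_one (good_mul hg (Or.inl rfl) hM) ?_)
    rw [← mulVec_mulVec, ← hn', hg', ← colv_mul, ents_eq_iff.1 h']
  · refine red_of_mul hg (Or.inr rfl) (red_fix_one (good_mul hg (Or.inr rfl) hM) ?_)
    rw [← mulVec_mulVec, ← hn', hg', neg_mulVec, ← colv_mul, colv_of_negCol h', neg_neg]

end CfsgLib.OmegaSevenThree
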