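import Cfsg.Agent.Lib.OmegaSevenThree.Bits
import Cfsg.Agent.Lib.OmegaSevenThree.Data

/-!
The computations checked against the tables.
-/

set_option autoImplicit false
set_option maxRecDepth 100000

namespace CfsgLib.OmegaSevenThree

/-- The twelve root elements and their squares. -/
def gens24 : List Code := rootPairs.flatMap fun g => [g.1, mul g.1 g.1]

/-- A word in base `b`, lowest digit applied first. -/
def wprod (gs : List Code) (b : ℕ) : ℕ → ℕ → Code
  | 0, _ => one
  | fuel + 1, w => if w = 0 then one else mul (wprod gs b fuel (w / b)) (gs.getD (w % b - 1) one)

/-- Adjoin a generator of order three on the left. -/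
def ext (r : Code) (L : List Code) : List Code :=
  L ++ L.map (mul r) ++ L.map (mul (mul r r))

/-- Products of powers of root elements `lo` to `lo + k`. -/
def span (lo : ℕ) : ℕ → List Code
  | 0 => [one]
  | k + 1 => ext ((rootPairs.getD (lo + k) (one, one)).1) (span lo k)

/-- The element, the word and the representative agree. -/
def entryOk (m : Code) (c : ℕ) : Bool :=
  let g := wprod gens24 25 16 (c / 8)
  decide (c % 8 < 7) && decide (norm (mul g m) = norm (mul (reps.getD (c % 8) one) g))

/-- Every element of order three in a row has a valid entry. -/
def rowOk (h : Code) : List Code → List ℕ → Bool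
  | [], _ => true
  | l :: ls, cs =>
    let m := mul h l
    if norm (mul m (mul m m)) = norm one ∧ norm m ≠ norm one then
      match cs with
      | c :: cs' => entryOk m c && rowOk h ls cs'
      | [] => false
    else rowOk h ls cs

/-- The check of one block of nine rows. -/
def blockOk (i : ℕ) (ws : List (List ℕ)) : Bool :=
  decide (ws.length = 9) &&
    ((((span 4 5).drop (9 * i)).take 9).zip ws).all fun p => rowOk p.1 (span 0 4) p.2

end CfsgLib.OmegaSevenThree
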