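import Cfsg.Agent.Lib.OmegaSevenThree.CentCheck

/-!
Invariants of the representatives.
-/

set_option autoImplicit false
set_option maxRecDepth 100000

namespace CfsgLib.OmegaSevenThree

theorem invariants0 : invariants 0 = (243, 2187, 0) := by decide +kernel

theorem invariants1 : invariants 1 = (243, 729, 1458) := by decide +kernel

theorem invariants2 : invariants 2 = (243, 729, 0) := by decide +kernel

theorem invariants3 : invariants 3 = (27, 729, 1458) := by decide +kernel

theorem invariants4 : invariants 4 = (27, 243, 486) := by decide +kernel

theorem invariants5 : invariants 5 = (27, 729, 1458) := by decide +kernel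

theorem invariants6 : invariants 6 = (27, 243, 972) := by decide +kernel

end CfsgLib.OmegaSevenThree
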