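import Cfsg.Agent.Lib.OmegaSevenThree.Centralizer
import Cfsg.Agent.Lib.OmegaSevenThree.Invariants

/-!
The seven representatives are pairwise not conjugate in `Ω`; subgroups of order three in the quotient.
-/

set_option autoImplicit false
set_option maxRecDepth 100000
set_option linter.unusedSectionVars false

namespace CfsgLib.OmegaSevenThree

open Matrix Cfsg CfsgLib.OrthSpinor
open QuadraticMap (polar)

/-- The invariant table. -/
def invTable : List (ℕ × ℕ × ℕ) :=
  [(243, 2187, 0), (243, 729, 1458), (243, 729, 0), (27, 729, 1458), (27, 243, 486),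
    (27, 729, 1458), (27, 243, 972)]

theorem invariants_table (i : Fin 7) : invariants i.val = invTable.getD i.val (0, 0, 0) := by
  fin_cases i
  · exact invariants0
  · exact invariants1
  · exact invariants2
  · exact invariants3
  · exact invariants4
  · exact invariants5
  · exact invariants6

theorem invTable_inj : ∀ i j : Fin 7, invTable.getD i.val (0, 0, 0) = invTable.getD j.val (0, 0, 0) →
    i = j ∨ (i = 3 ∧ j = 5) ∨ (i = 5 ∧ j = 3) := by decide +kernel

/-- Multiplication by the matrix of an isometry, on vectors. -/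
noncomputable def mulVecEquiv (g : O7) : V7 ≃ V7 where
  toFun v := mat g *ᵥ v
  invFun v := mat g⁻¹ *ᵥ v
  left_inv v := by simp [mulVec_mulVec, ← map_mul]
  right_inv v := by simp [mulVec_mulVec, ← map_mul]

theorem invariants_conj {g : O7} {i j : Fin 7} (h : g * repElt i * g⁻¹ = repElt j) :
    invariants i.val = invariants j.val := by
  have hc : ∀ v, mat g *ᵥ (nilMat i.val *ᵥ v) = nilMat j.val *ᵥ (mat g *ᵥ v) := by
    intro v
    have e : mat g * mat (repElt i) = mat (repElt j) * mat g := by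
      rw [← map_mul, ← map_mul, ← h, inv_mul_cancel_right]
    rw [nilMat_rep, nilMat_rep, mulVec_mulVec, mulVec_mulVec, Matrix.mul_sub, Matrix.sub_mul,
      Matrix.mul_one, Matrix.one_mul, e]
  have hz : ∀ v, mat g *ᵥ v = 0 ↔ v = 0 := by
    intro v
    refine ⟨fun hv => ?_, fun hv => by rw [hv, mulVec_zero]⟩
    have := congrArg (mulVecEquiv g).symm hv
    rw [show mat g *ᵥ v = mulVecEquiv g v from rfl, Equiv.symm_apply_apply] at this
    exact this.trans (show mat g⁻¹ *ᵥ (0 : V7) = 0 from mulVec_zero _)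
  rw [invariants_eq, invariants_eq]
  refine Prod.ext ?_ (Prod.ext ?_ ?_)
  · refine Nat.card_congr (Equiv.subtypeEquiv (mulVecEquiv g) fun v => ?_)
    show _ ↔ nilMat j.val *ᵥ (mat g *ᵥ v) = 0
    rw [← hc, hz]
  · refine Nat.card_congr (Equiv.subtypeEquiv (mulVecEquiv g) fun v => ?_)
    show _ ↔ nilMat j.val *ᵥ (nilMat j.val *ᵥ (mat g *ᵥ v)) = 0
    rw [← hc, ← hc, hz]
  · refine Nat.card_congr (Equiv.subtypeEquiv (mulVecEquiv g) fun v => ?_)
    show _ ↔ bil (nilMat j.val *ᵥ (mat g *ᵥ v)) (nilMat j.val *ᵥ (mat g *ᵥ v)) = 2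
    rw [← hc, bil, bil, mat_gram]

/-- An anisotropic vector of norm one. -/
def plusVec : I7 → ZMod 3 := Sum.elim 0 (Sum.elim ![1, 0, 0] ![1, 0, 0])

/-- An anisotropic vector of norm minus one. -/
def minusVec : I7 → ZMod 3 := Sum.elim 0 (Sum.elim ![1, 0, 0] ![2, 0, 0])

theorem Q_plusVec : Q7 plusVec = 1 := by
  rw [CfsgLib.LinFix.OrthFieldMain.coe_oddQ]
  simp [quadFormOdd, plusVec, Fin.sum_univ_three]

theorem Q_minusVec : Q7 minusVec = 2 := by
  rw [CfsgLib.LinFix.OrthFieldMain.coe_oddQ]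
  simp [quadFormOdd, minusVec, Fin.sum_univ_three]

theorem plus_ne : Q7 plusVec ≠ 0 := by rw [Q_plusVec]; decide

theorem minus_ne : Q7 minusVec ≠ 0 := by rw [Q_minusVec]; decide

/-- The product of the two reflections. -/
noncomputable def flipElt : O7 := reflection plus_ne * reflection minus_ne

theorem flip06_entries : ∀ i j : Fin 7,
    val (flip06.p.testBit (7 * i.val + j.val)) (flip06.n.testBit (7 * i.val + j.val)) =
      if i = j then (![2, 1, 1, 1, 1, 1, 2] : Fin 7 → ZMod 3) i else 0 := by decide +kernel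

theorem polar_vec (a : ZMod 3) (x : I7 → ZMod 3) :
    polar (⇑Q7) (Sum.elim 0 (Sum.elim ![1, 0, 0] ![a, 0, 0])) x =
      x (Sum.inr (Sum.inr 0)) + a * x (Sum.inr (Sum.inl 0)) := by
  rw [polar, CfsgLib.LinFix.OrthFieldMain.coe_oddQ]
  simp [quadFormOdd, Fin.sum_univ_three]
  ring

theorem mat_flipElt : mat flipElt = toMat flip06 := by
  have e : toMat flip06 = Matrix.diagonal ![2, 1, 1, 1, 1, 1, 2] := by
    ext i j
    rw [Matrix.diagonal_apply]
    exact flip06_entries i j
  refine Matrix.toLin'.injective (LinearMap.ext fun y => ?_)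
  rw [Matrix.toLin'_apply, Matrix.toLin'_apply, e]
  have hy : (y ∘ flagEquiv.symm) ∘ flagEquiv = y := by funext i; simp
  rw [← hy, ← act_comp, flipElt, act_mul, act_reflection, act_reflection, hy]
  funext i
  rw [Matrix.mulVec_diagonal]
  simp only [Function.comp_apply, Q_plusVec, Q_minusVec, Pi.sub_apply, Pi.smul_apply, smul_eq_mul]
  simp only [plusVec, minusVec, polar_vec, Pi.sub_apply, Pi.smul_apply, smul_eq_mul]
  have h2' : (2 : ZMod 3)⁻¹ = 2 := inv_eq_of_mul_eq_one_right (by decide)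
  rw [inv_one, h2']
  have key : ∀ u w : ZMod 3, 2 * (w + 2 * u) * 2 - w = 2 * u ∧ 2 * (w + 2 * u) - u = 2 * w := by
    decide
  fin_cases i <;> simp [flagEquiv, key]

theorem theta_flipElt : theta (Q := Q7) 1 flipElt = -1 := by
  have hns : ¬ IsSquare (1 * Q7 minusVec) := by
    rw [Q_minusVec, one_mul]
    rintro ⟨r, hr⟩
    exact absurd hr (by revert r; decide)
  rw [flipElt, map_mul,
    theta_reflection_of_square h2 one_ne_zero plus_ne ⟨1, by rw [Q_plusVec]⟩,
    theta_reflection_of_nonsquare h2 one_ne_zero minus_ne hns, mul_one]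

theorem detHom_flipElt : detHom flipElt = 1 := by
  rw [flipElt, map_mul, detHom_reflection, detHom_reflection]
  simp

theorem det_mat (g : O7) : (mat g).det = ((detHom g : (ZMod 3)ˣ) : ZMod 3) := by
  rw [detHom_coe]
  exact Matrix.det_submatrix_equiv_self _ _

/-- The representatives of index three and five are not conjugate in `Ω`. -/
theorem not_conj_three_five {a : O7} (ha : a ∈ Omega (ZMod 3) ⇑Q7) :
    a * repElt 3 * a⁻¹ ≠ repElt 5 := by
  intro h
  obtain ⟨ha1, ha2⟩ := (mem_Omega_iff h2 hQ hn one_ne_zero a).1 ha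
  have ht : flipElt * repElt 3 = repElt 5 * flipElt := by
    refine mat_injective ?_
    rw [map_mul, map_mul, mat_flipElt, mat_repElt, mat_repElt, ← toMat_mul, ← toMat_mul]
    exact toMat_of_norm flip_conj
  have hh : flipElt⁻¹ * a * repElt 3 = repElt 3 * (flipElt⁻¹ * a) := by
    have e1 : a * repElt 3 = repElt 5 * a := by rw [← h, inv_mul_cancel_right]
    have e2 : flipElt⁻¹ * repElt 5 = repElt 3 * flipElt⁻¹ := by
      rw [inv_mul_eq_iff_eq_mul, ← mul_assoc, ht, mul_assoc, mul_inv_cancel, mul_one]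
    rw [mul_assoc, e1, ← mul_assoc, e2, mul_assoc]
  obtain ⟨g, hg, hg'⟩ := red_of_good (M := mat (flipElt⁻¹ * a)) ⟨_, hh, Or.inl rfl⟩
  obtain ⟨hg1, hg2⟩ := (mem_Omega_iff h2 hQ hn one_ne_zero g).1 hg
  rcases hg' with hg' | hg'
  · have e : flipElt = a * g⁻¹ := by
      rw [← mat_injective hg', _root_.mul_inv_rev, inv_inv, ← mul_assoc, mul_inv_cancel, one_mul]
    have := congrArg (theta (Q := Q7) 1) e
    rw [theta_flipElt, map_mul, map_inv, ha2, hg2] at this
    exact absurd this (by decide)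
  · have e := congrArg Matrix.det hg'
    rw [Matrix.det_neg, det_mat, det_mat, map_mul, map_inv, detHom_flipElt, ha1, hg1] at e
    simp at e
    exact absurd e (by decide)

theorem repElt_conj_inj {i j : Fin 7} {a : O7} (ha : a ∈ Omega (ZMod 3) ⇑Q7)
    (h : a * repElt i * a⁻¹ = repElt j) : i = j := by
  have := invariants_conj h
  rw [invariants_table, invariants_table] at this
  rcases invTable_inj i j this with e | ⟨rfl, rfl⟩ | ⟨rfl, rfl⟩
  · exact e
  · exact absurd h (not_conj_three_five ha)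
  · refine absurd ?_ (not_conj_three_five (inv_mem ha))
    rw [← h]
    group

theorem center_eq_bot : Subgroup.center (Omega (ZMod 3) ⇑Q7) = ⊥ := by
  have h := CfsgLib.Classical.Quad.card_pomega_odd (F := ZMod 3) (by rw [Nat.card_zmod]; decide)
    (m := 3) (by norm_num)
  rw [← CfsgLib.LinFix.OrthFieldMain.coe_oddQ (F := ZMod 3) 3, Nat.card_zmod] at h
  simp only [Finset.prod_range_succ, Finset.prod_range_zero] at h
  have hq := Subgroup.card_eq_card_quotient_mul_card_subgroup
    (Subgroup.center (Omega (ZMod 3) ⇑Q7))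
  rw [card_omega] at hq
  norm_num at h hq
  have hP : Nat.card (Omega (ZMod 3) ⇑Q7 ⧸ Subgroup.center (Omega (ZMod 3) ⇑Q7)) =
      19683 * 232960 := by
    show Nat.card (POmega (ZMod 3) ⇑(CfsgLib.LinFix.OrthFieldMain.oddQ 3 (ZMod 3))) = _
    omega
  rw [hP] at hq
  refine Subgroup.eq_bot_of_card_eq _ ?_
  omega

set_option maxHeartbeats 1000000 in
/-- Seven classes of subgroups of order three in the quotient. -/
theorem classes_of (Q : (I7 → ZMod 3) → ZMod 3) (hQf : Q = ⇑Q7) :
    ∃ Y : Fin 7 → Subgroup (POmega (ZMod 3) Q), (∀ i, Nat.card (Y i) = 3) ∧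
      (∀ i j, (∃ g : POmega (ZMod 3) Q, (Y i).map (MulAut.conj g).toMonoidHom = Y j) → i = j) ∧
      (∀ X : Subgroup (POmega (ZMod 3) Q), Nat.card X = 3 →
        ∃ i, ∃ g : POmega (ZMod 3) Q, X.map (MulAut.conj g).toMonoidHom = Y i) := by
  subst hQf
  have : Fact (Nat.Prime 3) := ⟨Nat.prime_three⟩
  let π : Omega (ZMod 3) ⇑Q7 →* POmega (ZMod 3) ⇑Q7 :=
    QuotientGroup.mk' (Subgroup.center (Omega (ZMod 3) ⇑Q7))
  have hinj : Function.Injective π := by
    rw [← MonoidHom.ker_eq_bot_iff, QuotientGroup.ker_mk', center_eq_bot]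
  have hsurj : Function.Surjective π := QuotientGroup.mk'_surjective _
  set r : Fin 7 → Omega (ZMod 3) ⇑Q7 := fun i => ⟨repElt i, repElt_mem i⟩ with hr
  have hord : ∀ i, orderOf (π (r i)) = 3 := fun i => by
    refine orderOf_eq_prime (by rw [← map_pow, ← map_one π]; exact congrArg π (Subtype.ext (repElt_cube i))) ?_
    intro h
    rw [← map_one π] at h
    exact repElt_ne i (congrArg Subtype.val (hinj h))
  refine ⟨fun i => Subgroup.zpowers (π (r i)), fun i => by rw [Nat.card_zpowers, hord], ?_, ?_⟩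
  · rintro i j ⟨g, hg⟩
    rw [MonoidHom.map_zpowers] at hg
    obtain ⟨g', rfl⟩ := hsurj g
    have hg' := Subgroup.mem_zpowers ((MulAut.conj (π g')).toMonoidHom (π (r i)))
    rw [hg] at hg'
    obtain ⟨k, hk⟩ := Subgroup.mem_zpowers_iff.1 hg'
    rw [← zpow_mod_orderOf, hord] at hk
    have hk' : k % (3 : ℕ) = 0 ∨ k % (3 : ℕ) = 1 ∨ k % (3 : ℕ) = 2 := by omega
    rw [MulEquiv.coe_toMonoidHom, MulAut.conj_apply, ← map_inv, ← map_mul, ← map_mul, ← map_zpow]
      at hk
    have hk := congrArg Subtype.val (hinj hk)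
    simp only [hr, Subgroup.coe_mul, Subgroup.coe_inv, Subgroup.coe_zpow] at hk
    rcases hk' with e | e | e <;> rw [e] at hk
    · rw [zpow_zero, eq_comm] at hk
      exact absurd (conj_eq_one_iff.1 hk) (repElt_ne i)
    · rw [zpow_one] at hk
      exact repElt_conj_inj g'.2 hk.symm
    · rw [zpow_two] at hk
      obtain ⟨a, ha, ha'⟩ := exists_conj_sq j
      rw [hk] at ha'
      refine repElt_conj_inj (mul_mem ha g'.2) ?_
      rw [← ha']
      group
  · intro X hX
    obtain ⟨x, hx, hx1⟩ : ∃ x ∈ X, x ≠ 1 := by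
      by_contra h
      push Not at h
      rw [(Subgroup.eq_bot_iff_forall X).2 h, Subgroup.card_bot] at hX
      omega
    have hXx : Subgroup.zpowers x = X := by
      have : Finite X := Nat.finite_of_card_ne_zero (by rw [hX]; norm_num)
      have hxo : orderOf x = 3 := by
        have hd := Subgroup.orderOf_dvd_natCard X hx
        rw [hX] at hd
        rcases (Nat.dvd_prime Nat.prime_three).1 hd with h | h
        · exact absurd (orderOf_eq_one_iff.1 h) hx1
        · exact h
      exact Subgroup.eq_of_le_of_card_ge (Subgroup.zpowers_le.2 hx)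
        (by rw [Nat.card_zpowers, hxo, hX])
    have hx3 : x ^ 3 = 1 := by
      have := pow_card_eq_one' (x := (⟨x, hx⟩ : X))
      rw [hX] at this
      exact congrArg Subtype.val this
    obtain ⟨x', rfl⟩ := hsurj x
    have hx'3 : x' ^ 3 = 1 := hinj (by rw [map_pow, hx3, map_one])
    have hx'1 : x' ≠ 1 := fun h => hx1 (by rw [h, map_one])
    obtain ⟨g, hg, i, hi⟩ := exists_conj_rep x'.2 (congrArg Subtype.val hx'3)
      (fun h => hx'1 (Subtype.ext h))
    refine ⟨i, π ⟨g, hg⟩, ?_⟩
    rw [← hXx, MonoidHom.map_zpowers, MulEquiv.coe_toMonoidHom, MulAut.conj_apply, ← map_inv,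
      ← map_mul, ← map_mul]
    congr 2
    exact Subtype.ext hi

end CfsgLib.OmegaSevenThree
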