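import Cfsg.Agent.Lib.OmegaSevenThree.Small

/-!
The chain of subgroups generated by initial root elements is strict.
-/

set_option autoImplicit false
set_option maxRecDepth 100000

namespace CfsgLib.OmegaSevenThree

theorem strict_ok : ((List.range 9).all fun k =>
    (span 0 k).all fun l => decide (norm l ≠ norm (rootCode k))) = true := by decide +kernel

end CfsgLib.OmegaSevenThree
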