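import Cfsg.Agent.Lib.OmegaSevenThree.Model
import Cfsg.Agent.Lib.OmegaSevenThree.Strict
import Cfsg.Agent.Lib.OmegaSevenThree.Blocks.Part0
import Cfsg.Agent.Lib.OmegaSevenThree.Blocks.Part1
import Cfsg.Agent.Lib.OmegaSevenThree.Blocks.Part2
import Cfsg.Agent.Lib.OmegaSevenThree.Blocks.Part3
import Cfsg.Agent.Lib.OmegaSevenThree.Blocks.Part4
import Cfsg.Agent.Lib.OmegaSevenThree.Blocks.Part5
import Cfsg.Agent.Lib.OmegaSevenThree.Blocks.Part6
import Cfsg.Agent.Lib.OmegaSevenThree.Blocks.Part7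
import Cfsg.Agent.Lib.OmegaSevenThree.Blocks.Part8
import Cfsg.Agent.Lib.Classical.Quad.Std
import Cfsg.Agent.S0286

/-!
The Sylow 3-subgroup in flag coordinates and the classification of elements of order three.
-/

set_option autoImplicit false
set_option maxRecDepth 100000
set_option linter.unusedSectionVars false

namespace CfsgLib.OmegaSevenThree

open Matrix Cfsg CfsgLib.OrthSpinor
open scoped Pointwise

/-- The subgroup generated by the first `k` root elements. -/
noncomputable def chain : ℕ → Subgroup O7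
  | 0 => ⊥
  | k + 1 => Subgroup.zpowers (rootElt k) ⊔ chain k

theorem rootElt_mem_chain : ∀ {k j : ℕ}, j < k → rootElt j ∈ chain k
  | k + 1, j, hj => by
    rcases Nat.lt_succ_iff_lt_or_eq.1 hj with h | rfl
    · exact Subgroup.mem_sup_right (rootElt_mem_chain h)
    · exact Subgroup.mem_sup_left (Subgroup.mem_zpowers _)

theorem chain_eq_closure : ∀ k, chain k = Subgroup.closure {x | ∃ j < k, x = rootElt j}
  | 0 => by
    rw [chain]
    symm
    rw [Subgroup.closure_eq_bot_iff]
    rintro x ⟨j, hj, -⟩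
    exact absurd hj (Nat.not_lt_zero j)
  | k + 1 => by
    refine le_antisymm ?_ ((Subgroup.closure_le _).2 ?_)
    · rw [chain, chain_eq_closure k, sup_le_iff, Subgroup.zpowers_le]
      exact ⟨Subgroup.subset_closure ⟨k, k.lt_succ_self, rfl⟩,
        Subgroup.closure_mono fun x ⟨j, hj, hx⟩ => ⟨j, by omega, hx⟩⟩
    · rintro x ⟨j, hj, rfl⟩
      exact rootElt_mem_chain hj

theorem exists_expProd (k : ℕ) : ∀ (es : List ℕ) (i : ℕ), i + es.length ≤ k →
    ∃ x ∈ chain k, mat x = toMat (expProd i es)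
  | [], i, _ => ⟨1, one_mem _, by rw [map_one, expProd, toMat_one]⟩
  | a :: as, i, hi => by
    simp only [List.length_cons] at hi
    obtain ⟨x, hx, hx'⟩ := exists_expProd k as (i + 1) (by omega)
    have hr : rootElt i ∈ chain k := rootElt_mem_chain (by omega)
    rw [expProd]
    split_ifs
    · exact ⟨x, hx, by rw [toMat_mul, toMat_one, mul_one, hx']⟩
    · exact ⟨x * rootElt i, mul_mem hx hr, by rw [map_mul, toMat_mul, hx', mat_rootElt]⟩
    · exact ⟨x * (rootElt i * rootElt i), mul_mem hx (mul_mem hr hr), by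
        rw [map_mul, map_mul, toMat_mul, toMat_mul, hx', mat_rootElt]⟩

theorem mem_normalizer {k : ℕ} (hk : k < 9) :
    rootElt k ∈ Subgroup.normalizer (chain k : Set O7) := by
  have hconj : ∀ x ∈ chain k, rootElt k * x * (rootElt k)⁻¹ ∈ chain k := by
    have hle : chain k ≤ (chain k).comap (MulAut.conj (rootElt k)).toMonoidHom := by
      conv_lhs => rw [chain_eq_closure]
      refine (Subgroup.closure_le _).2 ?_
      rintro x ⟨j, hj, rfl⟩
      have hc := List.all_eq_true.1 (List.all_eq_true.1 conjTable_ok k (List.mem_range.2 hk)) j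
        (List.mem_range.2 hj)
      simp only [Bool.and_eq_true, decide_eq_true_eq] at hc
      obtain ⟨y, hy, hy'⟩ :=
        exists_expProd k ((conjTable.getD (k * (k - 1) / 2 + j) (0, 0, [])).2.2) 0 (by omega)
      show rootElt k * rootElt j * (rootElt k)⁻¹ ∈ chain k
      have hinv : (rootElt k)⁻¹ = rootElt k * rootElt k :=
        inv_eq_of_mul_eq_one_right (by rw [← mul_assoc, ← pow_two, ← pow_succ, rootElt_cube])
      suffices rootElt k * rootElt j * (rootElt k)⁻¹ = y from this ▸ hy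
      refine mat_injective ?_
      rw [hinv, map_mul, map_mul, map_mul, hy', mat_rootElt, mat_rootElt, ← toMat_of_norm hc.2,
        toMat_mul, toMat_mul, toMat_mul, mul_assoc]
    exact fun x hx => hle hx
  refine Subgroup.mem_normalizer_iff.2 fun x => ⟨hconj x, fun hx => ?_⟩
  have e : x = rootElt k * (rootElt k * (rootElt k * x * (rootElt k)⁻¹) * (rootElt k)⁻¹) *
      (rootElt k)⁻¹ := by
    have h3 := rootElt_cube k
    generalize rootElt k = r at h3 ⊢
    rw [show r * (r * (r * x * r⁻¹) * r⁻¹) * r⁻¹ = r ^ 3 * x * (r ^ 3)⁻¹ by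
      rw [pow_succ, pow_two, _root_.mul_inv_rev, _root_.mul_inv_rev]; simp only [mul_assoc], h3, inv_one, one_mul, mul_one]
  rw [e]
  exact hconj _ (hconj _ hx)

theorem mem_sup_chain {k : ℕ} (hk : k < 9) {x : O7} :
    x ∈ chain (k + 1) ↔ ∃ a < 3, ∃ u ∈ chain k, x = rootElt k ^ a * u := by
  constructor
  · intro hx
    have hx' : x ∈ ((Subgroup.zpowers (rootElt k) ⊔ chain k : Subgroup O7) : Set O7) := hx
    rw [Subgroup.coe_mul_of_left_le_normalizer_right _ _
      (Subgroup.zpowers_le.2 (mem_normalizer hk))] at hx'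
    obtain ⟨z, hz, u, hu, rfl⟩ := Set.mem_mul.1 hx'
    obtain ⟨n, rfl⟩ := Subgroup.mem_zpowers_iff.1 hz
    refine ⟨(n % 3).toNat, by omega, u, hu, ?_⟩
    congr 1
    rw [← zpow_natCast, Int.toNat_of_nonneg (by omega)]
    conv_lhs => rw [← Int.emod_add_mul_ediv n 3, _root_.zpow_add, _root_.zpow_mul, zpow_ofNat, rootElt_cube,
      _root_.one_zpow, mul_one]
  · rintro ⟨a, -, u, hu, rfl⟩
    exact mul_mem (pow_mem (rootElt_mem_chain k.lt_succ_self) a) (Subgroup.mem_sup_right hu)

theorem mem_ext {r : Code} {g : O7} (hg : mat g = toMat r) {L : List Code} {u : O7}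
    (hu : ∃ l ∈ L, mat u = toMat l) {a : ℕ} (ha : a < 3) :
    ∃ l ∈ ext r L, mat (g ^ a * u) = toMat l := by
  obtain ⟨l, hl, hl'⟩ := hu
  interval_cases a
  · exact ⟨l, by simp [ext, hl], by simpa using hl'⟩
  · exact ⟨mul r l, List.mem_append_left _ (List.mem_append_right _ (List.mem_map_of_mem hl)),
      by rw [pow_one, map_mul, toMat_mul, hg, hl']⟩
  · exact ⟨mul (mul r r) l, List.mem_append_right _ (List.mem_map_of_mem hl),
      by rw [pow_two, map_mul, map_mul, toMat_mul, toMat_mul, hg, hl']⟩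

theorem exists_span : ∀ k, k ≤ 9 → ∀ x ∈ chain k, ∃ l ∈ span 0 k, mat x = toMat l
  | 0, _, x, hx => by
    rw [chain, Subgroup.mem_bot] at hx
    exact ⟨one, by simp [span], by rw [hx, map_one, toMat_one]⟩
  | k + 1, hk, x, hx => by
    obtain ⟨a, ha, u, hu, rfl⟩ := (mem_sup_chain (by omega)).1 hx
    have := mem_ext (mat_rootElt k) (exists_span k (by omega) u hu) ha
    simpa [span, rootCode] using this

theorem span_split : ∀ k l, l ∈ span 0 (4 + k) →
    ∃ h ∈ span 4 k, ∃ l' ∈ span 0 4, toMat l = toMat h * toMat l'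
  | 0, l, hl => ⟨one, List.mem_singleton_self _, l, hl, by rw [toMat_one, one_mul]⟩
  | k + 1, l, hl => by
    have e : span 0 (4 + (k + 1)) = ext ((rootPairs.getD (4 + k) (one, one)).1) (span 0 (4 + k)) := by
      show span 0 (4 + k + 1) = _
      rw [span, Nat.zero_add]
    have e' : span 4 (k + 1) = ext ((rootPairs.getD (4 + k) (one, one)).1) (span 4 k) := rfl
    rw [e] at hl
    rw [e']
    generalize (rootPairs.getD (4 + k) (one, one)).1 = r at hl ⊢
    rcases List.mem_append.1 hl with hl | hl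
    · rcases List.mem_append.1 hl with hl | hl
      · obtain ⟨h, hh, l', hl', e⟩ := span_split k l hl
        exact ⟨h, by simp [ext, hh], l', hl', e⟩
      · obtain ⟨m, hm, rfl⟩ := List.mem_map.1 hl
        obtain ⟨h, hh, l', hl', e⟩ := span_split k m hm
        exact ⟨mul r h, List.mem_append_left _ (List.mem_append_right _ (List.mem_map_of_mem hh)),
          l', hl', by simp only [toMat_mul, e, mul_assoc]⟩
    · obtain ⟨m, hm, rfl⟩ := List.mem_map.1 hl
      obtain ⟨h, hh, l', hl', e⟩ := span_split k m hm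
      exact ⟨mul (mul r r) h, List.mem_append_right _ (List.mem_map_of_mem hh),
        l', hl', by simp only [toMat_mul, e, mul_assoc]⟩

theorem rootElt_not_mem {k : ℕ} (hk : k < 9) : rootElt k ∉ chain k := fun h => by
  obtain ⟨l, hl, hl'⟩ := exists_span k (by omega) _ h
  have hne := List.all_eq_true.1 (List.all_eq_true.1 strict_ok k (List.mem_range.2 hk)) l hl
  simp only [decide_eq_true_eq] at hne
  exact hne (norm_of_toMat (by rw [← hl', mat_rootElt]))

theorem card_chain : ∀ k, k ≤ 9 → Nat.card (chain k) = 3 ^ k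
  | 0, _ => by rw [chain, Subgroup.card_bot, pow_zero]
  | k + 1, hk => by
    have hk' : k < 9 := by omega
    have hr := rootElt_mem_chain k.lt_succ_self
    have hord : orderOf (rootElt k) = 3 :=
      orderOf_eq_prime (rootElt_cube k) fun h => rootElt_not_mem hk' (h ▸ one_mem _)
    have hbij : Function.Bijective fun p : Fin 3 × chain k =>
        (⟨rootElt k ^ (p.1 : ℕ) * (p.2 : O7),
          mul_mem (pow_mem hr _) (Subgroup.mem_sup_right p.2.2)⟩ : chain (k + 1)) := by
      constructor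
      · intro p q hpq
        have h : rootElt k ^ (p.1 : ℕ) * (p.2 : O7) = rootElt k ^ (q.1 : ℕ) * q.2 :=
          congrArg Subtype.val hpq
        have hmem : (rootElt k ^ (q.1 : ℕ))⁻¹ * rootElt k ^ (p.1 : ℕ) ∈ chain k := by
          rw [show (rootElt k ^ (q.1 : ℕ))⁻¹ * rootElt k ^ (p.1 : ℕ) = (q.2 : O7) * (p.2 : O7)⁻¹ by
            rw [inv_mul_eq_iff_eq_mul, ← mul_assoc, ← h, mul_inv_cancel_right]]
          exact mul_mem q.2.2 (inv_mem p.2.2)
        have hpq' : p.1 = q.1 := by
          by_contra hne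
          rw [← zpow_natCast, ← zpow_natCast, ← _root_.zpow_neg, ← _root_.zpow_add] at hmem
          set d : ℤ := -(q.1 : ℕ) + (p.1 : ℕ) with hd
          have hd3 : d % 3 = 1 ∨ d % 3 = 2 := by
            have := p.1.isLt; have := q.1.isLt
            have : (p.1 : ℕ) ≠ (q.1 : ℕ) := fun h => hne (Fin.ext h)
            omega
          refine rootElt_not_mem hk' ?_
          rw [← zpow_mod_orderOf, hord] at hmem
          rcases hd3 with h' | h'
          · rw [Nat.cast_ofNat, h', zpow_one] at hmem; exact hmem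
          · rw [Nat.cast_ofNat, h', zpow_ofNat] at hmem
            have : rootElt k = (rootElt k ^ 2)⁻¹ := eq_inv_of_mul_eq_one_left (by
              rw [← pow_succ', rootElt_cube])
            rw [this]
            exact inv_mem hmem
        refine Prod.ext hpq' (Subtype.ext ?_)
        rw [hpq'] at h
        exact mul_left_cancel h
      · intro x
        obtain ⟨a, ha, u, hu, hx⟩ := (mem_sup_chain hk').1 x.2
        exact ⟨⟨⟨a, ha⟩, ⟨u, hu⟩⟩, Subtype.ext hx.symm⟩
    rw [← Nat.card_eq_of_bijective _ hbij, Nat.card_prod, Nat.card_fin, card_chain k (by omega),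
      pow_succ, mul_comm]

theorem chain_le_omega (k : ℕ) : chain k ≤ Omega (ZMod 3) ⇑Q7 := by
  rw [chain_eq_closure, Subgroup.closure_le]
  rintro x ⟨j, -, rfl⟩
  exact mem_omega_of_cube (rootElt_cube j)

theorem card_omega : Nat.card (Omega (ZMod 3) ⇑Q7) = 3 ^ 9 * 232960 := by
  have hO := Cfsg.Agent.S0286.result (F := ZMod 3) (q := 3) (ZMod.card 3) (by decide) 3
  rw [← CfsgLib.LinFix.OrthFieldMain.coe_oddQ (F := ZMod 3) 3] at hO
  simp only [Finset.prod_range_succ, Finset.prod_range_zero] at hO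
  have hmul := Subgroup.card_mul_index (Omega (ZMod 3) ⇑Q7)
  rw [index_omega, hO] at hmul
  norm_num at hmul ⊢
  omega

theorem rowOk_cons (h l₀ : Code) (ls : List Code) (cs : List ℕ) (c : ℕ) :
    (rowOk h (l₀ :: ls) [] = if norm (mul (mul h l₀) (mul (mul h l₀) (mul h l₀))) = norm one ∧
      norm (mul h l₀) ≠ norm one then false else rowOk h ls []) ∧
    (rowOk h (l₀ :: ls) (c :: cs) = if norm (mul (mul h l₀) (mul (mul h l₀) (mul h l₀))) = norm one ∧
      norm (mul h l₀) ≠ norm one then entryOk (mul h l₀) c && rowOk h ls cs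
      else rowOk h ls (c :: cs)) :=
  ⟨rfl, rfl⟩

theorem rowOk_spec (h : Code) (ls : List Code) : ∀ cs : List ℕ, rowOk h ls cs = true → ∀ l ∈ ls,
    norm (mul (mul h l) (mul (mul h l) (mul h l))) = norm one → norm (mul h l) ≠ norm one →
    ∃ c, entryOk (mul h l) c = true := by
  induction ls with
  | nil => exact fun _ _ l hl => absurd hl List.not_mem_nil
  | cons l₀ ls ih =>
    intro cs hok l hl h3 hne
    by_cases hc : norm (mul (mul h l₀) (mul (mul h l₀) (mul h l₀))) = norm one ∧
        norm (mul h l₀) ≠ norm one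
    · cases cs with
      | nil => rw [(rowOk_cons h l₀ ls [] 0).1, if_pos hc] at hok; exact Bool.noConfusion hok
      | cons c cs' =>
        rw [(rowOk_cons h l₀ ls cs' c).2, if_pos hc] at hok
        replace hok := Bool.and_eq_true_iff.1 hok
        rcases List.mem_cons.1 hl with rfl | hl
        · exact ⟨c, hok.1⟩
        · exact ih cs' hok.2 l hl h3 hne
    · have hok' : rowOk h ls cs = true := by
        cases cs with
        | nil => rwa [(rowOk_cons h l₀ ls [] 0).1, if_neg hc] at hok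
        | cons c cs' => rwa [(rowOk_cons h l₀ ls cs' c).2, if_neg hc] at hok
      rcases List.mem_cons.1 hl with rfl | hl
      · exact absurd ⟨h3, hne⟩ hc
      · exact ih cs hok' l hl h3 hne

theorem exists_row {h : Code} (hh : h ∈ span 4 5) :
    ∃ cs, rowOk h (span 0 4) cs = true := by
  obtain ⟨i, hi, rfl⟩ := List.getElem_of_mem hh
  have hlen : ∀ k, (span 4 k).length = 3 ^ k := fun k => by
    induction k with
    | zero => rfl
    | succ k ih => simp [span, ext, ih, pow_succ]; ring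
  have hi' : i < 243 := by rw [hlen] at hi; simpa using hi
  have hb : ∀ b : Fin 27, ∃ ws, blockOk b.val ws = true := by
    intro b
    fin_cases b
    · exact ⟨_, block0⟩
    · exact ⟨_, block1⟩
    · exact ⟨_, block2⟩
    · exact ⟨_, block3⟩
    · exact ⟨_, block4⟩
    · exact ⟨_, block5⟩
    · exact ⟨_, block6⟩
    · exact ⟨_, block7⟩
    · exact ⟨_, block8⟩
    · exact ⟨_, block9⟩
    · exact ⟨_, block10⟩
    · exact ⟨_, block11⟩
    · exact ⟨_, block12⟩
    · exact ⟨_, block13⟩
    · exact ⟨_, block14⟩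
    · exact ⟨_, block15⟩
    · exact ⟨_, block16⟩
    · exact ⟨_, block17⟩
    · exact ⟨_, block18⟩
    · exact ⟨_, block19⟩
    · exact ⟨_, block20⟩
    · exact ⟨_, block21⟩
    · exact ⟨_, block22⟩
    · exact ⟨_, block23⟩
    · exact ⟨_, block24⟩
    · exact ⟨_, block25⟩
    · exact ⟨_, block26⟩
  obtain ⟨ws, hws⟩ := hb ⟨i / 9, by omega⟩
  simp only [blockOk, Bool.and_eq_true, decide_eq_true_eq] at hws
  obtain ⟨hw, hall⟩ := hws
  have hz : i % 9 < ((((span 4 5).drop (9 * (i / 9))).take 9).zip ws).length := by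
    simp only [List.length_zip, List.length_take, List.length_drop, hlen, hw]
    omega
  have hrow := List.all_eq_true.1 hall _ (List.getElem_mem hz)
  simp only [List.getElem_zip, List.getElem_take, List.getElem_drop] at hrow
  refine ⟨ws[i % 9]'(by omega), ?_⟩
  convert hrow using 3
  omega

/-- Codes of root elements and their squares. -/
theorem gens24_spec : ∀ c ∈ gens24, ∃ g ∈ Omega (ZMod 3) ⇑Q7, mat g = toMat c := by
  intro c hc
  obtain ⟨g, hg, hgc⟩ := List.mem_flatMap.1 hc
  obtain ⟨x, hx, hx3⟩ := exists_elt (List.all_eq_true.1 rootPairs_ok g hg)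
  rcases List.mem_cons.1 hgc with rfl | hgc
  · exact ⟨x, mem_omega_of_cube hx3, hx⟩
  · rw [List.mem_singleton] at hgc
    subst hgc
    exact ⟨x * x, mul_mem (mem_omega_of_cube hx3) (mem_omega_of_cube hx3),
      by rw [map_mul, toMat_mul, hx]⟩

theorem exists_repElt (i : Fin 7) :
    ∃ x ∈ chain 9, mat x = toMat (reps.getD i.val one) ∧ x ^ 3 = 1 ∧ x ≠ 1 := by
  have h := List.all_eq_true.1 reps_ok i.val (List.mem_range.2 i.isLt)
  simp only [Bool.and_eq_true, decide_eq_true_eq] at h
  obtain ⟨x, hx, hx'⟩ := exists_expProd 9 (repExp.getD i.val []) 0 (by omega)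
  have hm : mat x = toMat (reps.getD i.val one) := hx'.trans (toMat_of_norm h.2.1)
  refine ⟨x, hx, hm, mat_injective ?_, fun h1 => h.2.2.2 (norm_of_toMat ?_)⟩
  · rw [pow_succ, pow_two, mul_assoc, map_mul, map_mul, hm, map_one, ← toMat_mul, ← toMat_mul,
      ← toMat_one]
    exact toMat_of_norm h.2.2.1
  · rw [← hm, h1, map_one, toMat_one]

/-- The representatives. -/
noncomputable def repElt (i : Fin 7) : O7 := (exists_repElt i).choose

theorem repElt_mem (i : Fin 7) : repElt i ∈ Omega (ZMod 3) ⇑Q7 :=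
  chain_le_omega 9 (exists_repElt i).choose_spec.1

theorem mat_repElt (i : Fin 7) : mat (repElt i) = toMat (reps.getD i.val one) :=
  (exists_repElt i).choose_spec.2.1

theorem repElt_cube (i : Fin 7) : repElt i ^ 3 = 1 := (exists_repElt i).choose_spec.2.2.1

theorem repElt_ne (i : Fin 7) : repElt i ≠ 1 := (exists_repElt i).choose_spec.2.2.2

theorem conj_of_entryOk {m : Code} {c : ℕ} (hc : entryOk m c = true) {u : O7} (hu : mat u = toMat m) :
    ∃ g ∈ Omega (ZMod 3) ⇑Q7, ∃ h : c % 8 < 7, g * u * g⁻¹ = repElt ⟨c % 8, h⟩ := by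
  simp only [entryOk, Bool.and_eq_true, decide_eq_true_eq] at hc
  obtain ⟨g, hg, hg'⟩ := exists_wprod _ _ gens24_spec 25 16 (c / 8)
  refine ⟨g, hg, hc.1, mul_inv_eq_of_eq_mul (mat_injective ?_)⟩
  rw [map_mul, map_mul, mat_repElt, hg', hu, ← toMat_mul, ← toMat_mul]
  exact toMat_of_norm hc.2

/-- Every element of order three is conjugate in `Ω` to a representative. -/
theorem exists_conj_rep {x : O7} (hxΩ : x ∈ Omega (ZMod 3) ⇑Q7) (hx3 : x ^ 3 = 1) (hx1 : x ≠ 1) :
    ∃ g ∈ Omega (ZMod 3) ⇑Q7, ∃ i, g * x * g⁻¹ = repElt i := by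
  have : Fact (Nat.Prime 3) := ⟨Nat.prime_three⟩
  set U := (chain 9).subgroupOf (Omega (ZMod 3) ⇑Q7)
  have hf : (Nat.card (Omega (ZMod 3) ⇑Q7)).factorization 3 = 9 := by
    rw [card_omega, Nat.factorization_mul (by norm_num) (by norm_num), Finsupp.add_apply,
      Nat.Prime.factorization_pow Nat.prime_three, Finsupp.single_eq_same,
      Nat.factorization_eq_zero_of_not_dvd (by norm_num)]
  have hU : Nat.card U = 3 ^ 9 := by
    rw [Nat.card_congr (Subgroup.subgroupOfEquivOfLe (chain_le_omega 9)).toEquiv, card_chain 9 le_rfl]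
  let S : Sylow 3 (Omega (ZMod 3) ⇑Q7) := Sylow.ofCard U (by rw [hU, hf])
  set x' : Omega (ZMod 3) ⇑Q7 := ⟨x, hxΩ⟩
  have hx'3 : x' ^ 3 = 1 := Subtype.ext hx3
  have hp : IsPGroup 3 (Subgroup.zpowers x') := by
    refine IsPGroup.of_card (n := 1) ?_
    rw [Nat.card_zpowers, pow_one]
    exact orderOf_eq_prime hx'3 fun h => hx1 (congrArg Subtype.val h)
  obtain ⟨P, hP⟩ := hp.exists_le_sylow
  obtain ⟨a, ha⟩ := MulAction.exists_smul_eq (Omega (ZMod 3) ⇑Q7) P S
  have hu : (a : O7) * x * (a : O7)⁻¹ ∈ chain 9 := by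
    have h1 : MulAut.conj a • x' ∈ MulAut.conj a • (P : Subgroup (Omega (ZMod 3) ⇑Q7)) :=
      Subgroup.smul_mem_pointwise_smul _ _ _ (hP (Subgroup.mem_zpowers x'))
    rw [← Sylow.coe_subgroup_smul, ha] at h1
    exact Subgroup.mem_subgroupOf.1 h1
  set u : O7 := (a : O7) * x * (a : O7)⁻¹ with hudef
  have hu3 : u ^ 3 = 1 := by rw [hudef, conj_pow, hx3, mul_one, mul_inv_cancel]
  have hu1 : u ≠ 1 := fun h => hx1 (conj_eq_one_iff.1 h)
  obtain ⟨l, hl, hl'⟩ := exists_span 9 le_rfl u hu
  obtain ⟨h, hh, l', hl2, e⟩ := span_split 5 l hl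
  obtain ⟨cs, hrow⟩ := exists_row hh
  have hm : mat u = toMat (mul h l') := by rw [hl', e, toMat_mul]
  have h3 : ∀ m : Code, mat u = toMat m → toMat (mul m (mul m m)) = toMat one := fun m hm => by
    rw [toMat_mul, toMat_mul, ← hm, ← map_mul, ← map_mul, toMat_one, ← map_one mat, ← mul_assoc,
      ← pow_two, ← pow_succ, hu3]
  obtain ⟨c, hc⟩ := rowOk_spec h _ cs hrow l' hl2 (norm_of_toMat (h3 _ hm))
    (fun heq => hu1 (mat_injective (by rw [hm, toMat_of_norm heq, toMat_one, map_one])))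
  obtain ⟨g, hg, hlt, hgu⟩ := conj_of_entryOk hc hm
  refine ⟨g * a, mul_mem hg a.2, ⟨c % 8, hlt⟩, ?_⟩
  rw [← hgu, hudef]
  group

/-- A representative is conjugate to its square. -/
theorem exists_conj_sq (i : Fin 7) :
    ∃ g ∈ Omega (ZMod 3) ⇑Q7, g * (repElt i * repElt i) * g⁻¹ = repElt i := by
  have h := List.all_eq_true.1 sqWords_ok i.val (List.mem_range.2 i.isLt)
  simp only [Bool.and_eq_true, decide_eq_true_eq] at h
  obtain ⟨g, hg, hlt, he⟩ := conj_of_entryOk h.2
    (u := repElt i * repElt i) (by rw [map_mul, toMat_mul, mat_repElt])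
  refine ⟨g, hg, he.trans ?_⟩
  exact congrArg repElt (Fin.ext h.1)

end CfsgLib.OmegaSevenThree
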